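import Mathlib
import Cfsg.Prelude.Def_Involutions
import Cfsg.Agent.Lib.Invol.Sylow

/-!
# Actions in which elements of prime order fix few points

`D` is a finite set of points and every element of order `p` fixes at most `D.ncard` points, so a
nontrivial `p`-element fixing `D` pointwise fixes exactly `D`.
-/

set_option autoImplicit false

namespace Cfsg.Agent.Fus.FixFour

open Subgroup MulAction
open scoped Pointwise

universe u v

variable {G : Type u} [Group G] {Ω : Type v} [MulAction G Ω]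

theorem fixedBy_conj (g x : G) : fixedBy Ω (g * x * g⁻¹) = g • fixedBy Ω x :=
  (smul_fixedBy Ω x g).symm

theorem mem_fixing {D : Set Ω} {g : G} : g ∈ fixingSubgroup G D ↔ D ⊆ fixedBy Ω g :=
  ⟨fun h _ hy => (mem_fixingSubgroup_iff G).1 h _ hy, fun h => (mem_fixingSubgroup_iff G).2 fun _ hy => h hy⟩

theorem fixing_le_stab (D : Set Ω) : fixingSubgroup G D ≤ stabilizer G D := fun _ hg =>
  mem_stabilizer_iff.2 (set_mem_fixedBy_of_subset_fixedBy (mem_fixing.1 hg))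

theorem smul_fixedBy_of_commute {g x : G} (h : Commute g x) : g • fixedBy Ω x = fixedBy Ω x := by
  rw [smul_fixedBy Ω, h.eq, mul_inv_cancel_right]

/-- Conjugation moves the pointwise stabilizer. -/
theorem conj_mem_fixing {D : Set Ω} {g x : G} :
    g * x * g⁻¹ ∈ fixingSubgroup G (g • D) ↔ x ∈ fixingSubgroup G D := by
  rw [mem_fixing, mem_fixing, fixedBy_conj, Set.smul_set_subset_smul_set_iff]

theorem conj_mem_stab {D : Set Ω} {g x : G} :
    g * x * g⁻¹ ∈ stabilizer G (g • D) ↔ x ∈ stabilizer G D := by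
  simp only [mem_stabilizer_iff, smul_smul, inv_mul_cancel_right]
  rw [mul_smul]
  exact smul_left_cancel_iff g

theorem mem_stab_iff_smul_eq {D : Set Ω} {g : G} : g ∈ stabilizer G D ↔ g • D = D :=
  mem_stabilizer_iff

variable [Finite Ω]

theorem ncard_smul (g : G) (D : Set Ω) : (g • D).ncard = D.ncard :=
  Set.ncard_image_of_injective D (MulAction.injective g)

/-- The hypothesis on elements of order `p`. -/
def Few (Ω : Type v) [MulAction G Ω] (p k : ℕ) : Prop :=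
  ∀ g : G, orderOf g = p → (fixedBy Ω g).ncard ≤ k

theorem exists_prime_power_of_pGroup {p : ℕ} [Fact p.Prime] {P : Subgroup G} [Finite P] (hP : IsPGroup p P)
    {x : G} (hx : x ∈ P) (hx1 : x ≠ 1) : ∃ k : ℕ, orderOf (x ^ k) = p := by
  obtain ⟨i, hi⟩ := (IsPGroup.iff_orderOf.1 hP) ⟨x, hx⟩
  rw [Subgroup.orderOf_mk] at hi
  cases i with
  | zero => exact absurd (orderOf_eq_one_iff.1 (by simpa using hi)) hx1
  | succ i =>
    refine ⟨p ^ i, ?_⟩
    rw [orderOf_pow' _ (pow_ne_zero _ (Fact.out : p.Prime).ne_zero), hi,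
      Nat.gcd_eq_right (pow_dvd_pow p i.le_succ), Nat.pow_div i.le_succ (Fact.out : p.Prime).pos,
      Nat.succ_sub (le_refl i), Nat.sub_self, pow_one]

theorem subset_fixedBy_pow {D : Set Ω} {x : G} (h : D ⊆ fixedBy Ω x) (k : ℕ) :
    D ⊆ fixedBy Ω (x ^ k) :=
  mem_fixing.1 (pow_mem (mem_fixing.2 h) k)

/-- A nontrivial `p`-element fixing `D` fixes exactly `D`. -/
theorem fixed_eq {p : ℕ} [Fact p.Prime] {D : Set Ω} (hfew : Few (G := G) Ω p D.ncard)
    {P : Subgroup G} [Finite P] (hP : IsPGroup p P) {x : G} (hx : x ∈ P) (hx1 : x ≠ 1)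
    (hD : x ∈ fixingSubgroup G D) : fixedBy Ω x = D := by
  obtain ⟨k, hk⟩ := exists_prime_power_of_pGroup hP hx hx1
  have h : D = fixedBy Ω (x ^ k) :=
    Set.eq_of_subset_of_ncard_le (subset_fixedBy_pow (mem_fixing.1 hD) k) (hfew _ hk) (Set.toFinite _)
  exact le_antisymm ((subset_fixedBy_pow le_rfl k).trans h.ge) (mem_fixing.1 hD)

/-- The pointwise stabilizers of two sets meet trivially in a `p`-group. -/
theorem eq_one_of_fix_two {p : ℕ} [Fact p.Prime] {D D' : Set Ω} (hfew : Few (G := G) Ω p D.ncard)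
    (hcard : D'.ncard = D.ncard) (hne : D' ≠ D) {P : Subgroup G} [Finite P] (hP : IsPGroup p P)
    {x : G} (hx : x ∈ P) (hD : x ∈ fixingSubgroup G D) (hD' : x ∈ fixingSubgroup G D') : x = 1 :=
  by_contra fun h1 => hne ((fixed_eq (by rwa [hcard]) hP hx h1 hD').symm.trans (fixed_eq hfew hP hx h1 hD))

/-- An element centralising a nontrivial `p`-element that fixes `D` stabilises `D`. -/
theorem mem_stab_of_commute {p : ℕ} [Fact p.Prime] {D : Set Ω} (hfew : Few (G := G) Ω p D.ncard)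
    {P : Subgroup G} [Finite P] (hP : IsPGroup p P) {x : G} (hx : x ∈ P) (hx1 : x ≠ 1)
    (hD : x ∈ fixingSubgroup G D) {g : G} (hg : Commute g x) : g ∈ stabilizer G D := by
  rw [mem_stabilizer_iff, ← fixed_eq hfew hP hx hx1 hD]
  exact smul_fixedBy_of_commute hg

theorem stab_ne_top [MulAction.IsPretransitive G Ω] {D : Set Ω} (hne : D.Nonempty) (hD : D ≠ Set.univ) :
    stabilizer G D ≠ ⊤ := by
  obtain ⟨a, ha⟩ := hne
  obtain ⟨b, hb⟩ := (Set.ne_univ_iff_exists_notMem _).1 hD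
  obtain ⟨g, rfl⟩ := exists_smul_eq G a b
  exact fun h => hb ((mem_stabilizer_iff.1 (h ▸ Subgroup.mem_top g : g ∈ stabilizer G D)) ▸
    Set.smul_mem_smul_set ha)

theorem exists_normalizing {p : ℕ} [Fact p.Prime] {P R : Subgroup G} [Finite P] (hP : IsPGroup p P)
    (hRP : R ≤ P) (hne : R ≠ P) : ∃ x ∈ P, x ∉ R ∧ ∀ r : G, r ∈ R ↔ x * r * x⁻¹ ∈ R := by
  haveI : Group.IsNilpotent P := hP.isNilpotent
  have hlt : R.subgroupOf P < ⊤ := lt_top_iff_ne_top.2 fun e => hne (le_antisymm hRP (subgroupOf_eq_top.1 e))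
  obtain ⟨⟨x, hxP⟩, hxn, hx⟩ := SetLike.exists_of_lt (Group.normalizerCondition_of_isNilpotent _ hlt)
  refine ⟨x, hxP, fun h => hx h, fun r => ⟨fun hr => ?_, fun hr => ?_⟩⟩
  · exact (Subgroup.mem_normalizer_iff.1 hxn ⟨r, hRP hr⟩).1 hr
  · have h1 : x * r * x⁻¹ ∈ P := hRP hr
    have h2 : r ∈ P := by simpa [mul_assoc] using P.mul_mem (P.mul_mem (P.inv_mem hxP) h1) hxP
    exact (Subgroup.mem_normalizer_iff.1 hxn ⟨r, h2⟩).2 hr

/-- When `R = P ∩ Stab D` is not all of `P`, some element normalising `R` moves `D`. -/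
theorem exists_moving {p : ℕ} [Fact p.Prime] {D : Set Ω} {P : Subgroup G} [Finite P] (hP : IsPGroup p P)
    (h : ¬ P ≤ stabilizer G D) : ∃ x ∈ P, x • D ≠ D ∧
      ∀ r : G, r ∈ P ⊓ stabilizer G D ↔ x * r * x⁻¹ ∈ P ⊓ stabilizer G D := by
  obtain ⟨x, hx, hxR, hn⟩ := exists_normalizing hP (R := P ⊓ stabilizer G D) inf_le_left
    fun e => h (e.ge.trans inf_le_right)
  exact ⟨x, hx, fun e => hxR (Subgroup.mem_inf.2 ⟨hx, mem_stabilizer_iff.2 e⟩), hn⟩

/-- The image of a subgroup of the setwise stabilizer in the permutations of the set. -/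
theorem exists_image {p : ℕ} [Fact p.Prime] {D : Set Ω} {K : Subgroup G} [Finite K]
    (hK : IsPGroup p K) (hKS : K ≤ stabilizer G D) :
    ∃ L : Subgroup (Equiv.Perm ↥D), IsPGroup p L ∧
      Nat.card K = Nat.card ↥(K ⊓ fixingSubgroup G D) * Nat.card L ∧
      ((∀ a ∈ K, ∀ b ∈ K, a * b * a⁻¹ * b⁻¹ ∈ fixingSubgroup G D) → ∀ a ∈ L, ∀ b ∈ L, a * b = b * a) := by
  let act : MulAction ↥K ↥D :=
    { smul := fun k d => ⟨(k : G) • (d : Ω), by
        have h := Set.smul_mem_smul_set (a := (k : G)) d.2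
        rwa [mem_stabilizer_iff.1 (hKS k.2)] at h⟩
      one_smul := fun d => Subtype.ext (one_smul G (d : Ω))
      mul_smul := fun k l d => Subtype.ext (mul_smul (k : G) (l : G) (d : Ω)) }
  let ρ : ↥K →* Equiv.Perm ↥D := @MulAction.toPermHom ↥K ↥D _ act
  have hiff : ∀ k : ↥K, k ∈ ρ.ker ↔ (k : G) ∈ fixingSubgroup G D := fun k => by
    constructor
    · exact fun h => (mem_fixingSubgroup_iff G).2 fun y hy =>
        congrArg Subtype.val (DFunLike.congr_fun (MonoidHom.mem_ker.1 h) (⟨y, hy⟩ : ↥D))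
    · exact fun h => MonoidHom.mem_ker.2 (Equiv.ext fun d => Subtype.ext ((mem_fixingSubgroup_iff G).1 h d.1 d.2))
  have hker : Nat.card ρ.ker = Nat.card ↥(K ⊓ fixingSubgroup G D) := by
    refine Nat.card_congr
      { toFun := fun k => ⟨(k.1 : G), Subgroup.mem_inf.2 ⟨k.1.2, (hiff _).1 k.2⟩⟩
        invFun := fun k => ⟨⟨k.1, k.2.1⟩, (hiff _).2 k.2.2⟩
        left_inv := fun k => rfl
        right_inv := fun k => rfl }
  refine ⟨ρ.range, hK.of_surjective ρ.rangeRestrict ρ.rangeRestrict_surjective, ?_, ?_⟩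
  · have h := ρ.ker.card_mul_index
    rw [Subgroup.index_ker, hker] at h
    exact h.symm
  · rintro h _ ⟨a, rfl⟩ _ ⟨b, rfl⟩
    have h1 : a * b * a⁻¹ * b⁻¹ ∈ ρ.ker := (hiff _).2 (h a a.2 b b.2)
    rw [MonoidHom.mem_ker, map_mul, map_mul, map_mul, map_inv, map_inv, mul_inv_eq_one, mul_inv_eq_iff_eq_mul] at h1
    exact h1

theorem card_le_of_meet {p b : ℕ} [Fact p.Prime] {D : Set Ω} {K : Subgroup G} [Finite K]
    (hK : IsPGroup p K) (hKS : K ≤ stabilizer G D)
    (hb : ∀ k : ℕ, p ^ k ∣ D.ncard.factorial → p ^ k ≤ b) :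
    Nat.card K ≤ Nat.card ↥(K ⊓ fixingSubgroup G D) * b := by
  obtain ⟨L, hL, hc, -⟩ := exists_image hK hKS
  haveI : Finite ↥D := Subtype.finite
  obtain ⟨i, hi⟩ := IsPGroup.iff_card.1 hL
  have hdvd := Subgroup.card_subgroup_dvd_card L
  rw [hi, Nat.card_perm, Nat.card_coe_set_eq] at hdvd
  rw [hc, hi]
  exact Nat.mul_le_mul_left _ (hb i hdvd)

theorem pow_two_le_two {k : ℕ} {d : ℕ} (hd : d ≤ 3) (h : 2 ^ k ∣ d.factorial) : 2 ^ k ≤ 2 := by
  have h6 : 2 ^ k ∣ 6 := h.trans (Nat.factorial_dvd_factorial hd)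
  rcases k with _ | _ | k
  · norm_num
  · norm_num
  · exfalso
    have : 2 ^ 2 ∣ 6 := (pow_dvd_pow 2 (show 2 ≤ k + 1 + 1 by omega)).trans h6
    norm_num at this

theorem pow_two_le_eight {k : ℕ} {d : ℕ} (hd : d ≤ 4) (h : 2 ^ k ∣ d.factorial) : 2 ^ k ≤ 8 := by
  have h24 : 2 ^ k ∣ 24 := h.trans (Nat.factorial_dvd_factorial hd)
  rcases Nat.lt_or_ge k 4 with hk | hk
  · interval_cases k <;> norm_num
  · exfalso
    have : 2 ^ 4 ∣ 24 := (pow_dvd_pow 2 hk).trans h24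
    norm_num at this

theorem pow_three_le_three {k : ℕ} {d : ℕ} (hd : d ≤ 4) (h : 3 ^ k ∣ d.factorial) : 3 ^ k ≤ 3 := by
  have h24 : 3 ^ k ∣ 24 := h.trans (Nat.factorial_dvd_factorial hd)
  rcases k with _ | _ | k
  · norm_num
  · norm_num
  · exfalso
    have : 3 ^ 2 ∣ 24 := (pow_dvd_pow 3 (show 2 ≤ k + 1 + 1 by omega)).trans h24
    norm_num at this

/-- A `p`-element of a subgroup containing a Sylow subgroup is conjugate into it there. -/
theorem conj_into_sylow [Finite G] {p : ℕ} [Fact p.Prime] (P : Sylow p G) {H : Subgroup G}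
    (hPH : (P : Subgroup G) ≤ H) {x : G} (hx : x ∈ H) {n : ℕ} (hord : orderOf x = p ^ n) :
    ∃ h ∈ H, h * x * h⁻¹ ∈ (P : Subgroup G) := by
  obtain ⟨g, hg⟩ := Invol.exists_conj_mem_sylow (G := H) (x := ⟨x, hx⟩)
    (show orderOf (⟨x, hx⟩ : H) = p ^ n by rwa [Subgroup.orderOf_mk]) (P.subtype hPH)
  exact ⟨g, g.2, Subgroup.mem_subgroupOf.1 hg⟩

theorem mem_map_conj_iff {H : Subgroup G} {g v : G} :
    v ∈ H.map (MulAut.conj g).toMonoidHom ↔ g⁻¹ * v * g ∈ H := by
  rw [Subgroup.mem_map_equiv, MulAut.conj_symm_apply]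

/-- If every involution of `Stab D` fixes exactly `D`, the stabilizer is strongly embedded. -/
theorem se_of_exact [Finite G] [MulAction.IsPretransitive G Ω] {D : Set Ω} (hne : D.Nonempty)
    (hD : D ≠ Set.univ) (heven : ∃ t ∈ stabilizer G D, orderOf t = 2)
    (hall : ∀ t ∈ stabilizer G D, orderOf t = 2 → fixedBy Ω t = D) :
    Cfsg.IsStronglyEmbedded (stabilizer G D) := by
  obtain ⟨t, htD, ht⟩ := heven
  refine ⟨stab_ne_top hne hD, Invol.even_card_of_mem ht htD, fun g hg => Nat.not_even_iff_odd.1 fun he => ?_⟩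
  obtain ⟨v, hv, hv2⟩ := Invol.exists_orderOf_two_mem he
  have h1 := mem_map_conj_iff.1 (Subgroup.mem_inf.1 hv).2
  have h2 : orderOf (g⁻¹ * v * g) = 2 := by simpa [hv2] using Invol.orderOf_conj_eq g⁻¹ v
  have e1 := hall v (Subgroup.mem_inf.1 hv).1 hv2
  have e2 := hall _ h1 h2
  apply hg
  rw [mem_stabilizer_iff]
  calc g • D = g • fixedBy Ω (g⁻¹ * v * g) := by rw [e2]
    _ = fixedBy Ω (g * (g⁻¹ * v * g) * g⁻¹) := smul_fixedBy Ω _ _
    _ = fixedBy Ω v := by congr 1; group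
    _ = D := e1

end Cfsg.Agent.Fus.FixFour
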