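import Mathlib
import Cfsg.Prelude.Def_CaseTheorems
import Cfsg.Agent.Lib.Invol.Sylow
import Cfsg.Agent.Lib.Spor.SelfCentFourSection
import Cfsg.Agent.S1232
import Cfsg.Agent.S0501

/-!
# Sectional rank of a 2-group with a small subgroup whose centralizers are small

The 2-group arguments for four fixed points: `U` of order two or four, `R` containing the centralizers
of its involutions, abelian sections of `R` above `U` of order at most four.
-/

set_option autoImplicit false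

namespace Cfsg.Agent.Fus.FixFour

open Subgroup
open Cfsg.Agent.Spor.SelfCentFour

universe u

variable {S : Type u} [Group S] [Finite S]

theorem smallSections_of_sectional (h : Cfsg.SectionalPRankLE 2 4 S) : SmallSections S := by
  intro H K hKH hsq hcom
  have hn : (K.subgroupOf H).Normal := ⟨fun k hk g => by
    have h1 := hcom g g.2 (k : S) k.2
    have h2 := K.mul_mem h1 (mem_subgroupOf.1 hk)
    refine mem_subgroupOf.2 ?_
    simpa using h2⟩
  have hcm : IsMulCommutative (⊤ : Subgroup (↥H ⧸ K.subgroupOf H)) := by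
    refine ⟨⟨fun x y => Subtype.ext ?_⟩⟩
    obtain ⟨a, ha⟩ := QuotientGroup.mk_surjective x.1
    obtain ⟨b, hb⟩ := QuotientGroup.mk_surjective y.1
    simp only [Subgroup.coe_mul, ← ha, ← hb, ← QuotientGroup.mk_mul]
    rw [QuotientGroup.eq, mem_subgroupOf]
    have h1 := hcom (b : S)⁻¹ (H.inv_mem b.2) (a : S)⁻¹ (H.inv_mem a.2)
    simpa [mul_assoc] using h1
  have hA := h H (K.subgroupOf H) ⊤ hcm (fun a _ => by
    obtain ⟨x, rfl⟩ := QuotientGroup.mk_surjective a
    rw [← QuotientGroup.mk_pow, QuotientGroup.eq_one_iff, mem_subgroupOf, Subgroup.coe_pow, pow_two]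
    exact hsq _ x.2)
  rw [Subgroup.card_top, ← Subgroup.index_eq_card] at hA
  have h1 := Subgroup.card_mul_index (K.subgroupOf H)
  rw [Nat.card_congr (subgroupOfEquivOfLe hKH).toEquiv] at h1
  rw [← h1, mul_comm (16 : ℕ)]
  exact Nat.mul_le_mul_left _ (hA.trans (by norm_num))

theorem isMulCommutative_of {H : Subgroup S} (h : ∀ a ∈ H, ∀ b ∈ H, a * b = b * a) : IsMulCommutative H :=
  ⟨⟨fun a b => Subtype.ext (h a a.2 b b.2)⟩⟩

/-- A self-centralizing elementary abelian subgroup of order eight bounds the rank. -/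
theorem small_of_eight (hp : IsPGroup 2 S) {E : Subgroup S} (hc : ∀ a ∈ E, ∀ b ∈ E, a * b = b * a)
    (hsq : ∀ a ∈ E, a * a = 1) (h8 : Nat.card E = 8) (hC : centralizer (E : Set S) ≤ E) : SmallSections S :=
  smallSections_of_sectional (Cfsg.Agent.Char.HaradaEight.sectional_rank hp E hc hsq h8
    (le_antisymm hC fun a ha => mem_centralizer_iff.2 fun b hb => hc b hb a ha))

/-- Without normal elementary abelian subgroups of order eight. -/
theorem small_of_no_eight (hp : IsPGroup 2 S)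
    (h : ∀ A : Subgroup S, A.Normal → (∀ a ∈ A, ∀ b ∈ A, a * b = b * a) → (∀ a ∈ A, a * a = 1) →
      8 ≤ Nat.card A → False) : SmallSections S := by
  refine smallSections_of_sectional (Cfsg.Agent.Char.FourGen.sectional_rank hp fun A hA hc hsq => ?_)
  by_contra hlt
  obtain ⟨n, hn⟩ := card_pow_two hp A
  refine h A hA (fun a ha b hb => congrArg Subtype.val (hc.is_comm.comm ⟨a, ha⟩ ⟨b, hb⟩))
    (fun a ha => pow_two a ▸ hsq a ha) ?_
  rw [hn] at hlt ⊢
  have : 3 ≤ n := by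
    by_contra hc'
    have : 2 ^ n ≤ 2 ^ 2 := Nat.pow_le_pow_right two_pos (by omega)
    omega
  exact le_trans (by norm_num) (Nat.pow_le_pow_right two_pos this)

/-- An involution fixes at least four elements of an elementary abelian normal subgroup of order at
least eight. -/
theorem four_le_cent (hp : IsPGroup 2 S) {A : Subgroup S} (hA : A.Normal)
    (hc : ∀ a ∈ A, ∀ b ∈ A, a * b = b * a) (hsq : ∀ a ∈ A, a * a = 1) (h8 : 8 ≤ Nat.card A) {u : S}
    (hu : u * u = 1) : 4 ≤ Nat.card ↥(A ⊓ centralizer ({u} : Set S)) := by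
  have hui : u⁻¹ = u := inv_eq_of_mul_eq_one_right hu
  let f : ↥A →* ↥A := MonoidHom.mk' (fun a => ⟨(a : S) * (u * a * u⁻¹), A.mul_mem a.2 (hA.conj_mem _ a.2 u)⟩)
    fun a b => Subtype.ext (by
      show (a * b : S) * (u * (a * b : S) * u⁻¹) = (a : S) * (u * a * u⁻¹) * ((b : S) * (u * b * u⁻¹))
      have h1 := hc _ (hA.conj_mem _ a.2 u) _ b.2
      calc (a * b : S) * (u * (a * b : S) * u⁻¹) = (a : S) * ((b : S) * (u * a * u⁻¹)) * (u * b * u⁻¹) := by group
        _ = _ := by rw [← h1]; group)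
  have hker : ∀ a : ↥A, a ∈ f.ker ↔ u * (a : S) = a * u := fun a => by
    rw [MonoidHom.mem_ker]
    constructor
    · intro h
      have h1 : (a : S) * (u * a * u⁻¹) = 1 := congrArg Subtype.val h
      have h2 : u * (a : S) * u⁻¹ = a := by
        rw [eq_inv_of_mul_eq_one_right h1]; exact inv_eq_of_mul_eq_one_right (hsq _ a.2)
      exact mul_inv_eq_iff_eq_mul.1 h2
    · intro h
      refine Subtype.ext ?_
      show (a : S) * (u * a * u⁻¹) = 1
      rw [h, mul_inv_cancel_right, hsq _ a.2]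
  have hrk : f.range ≤ f.ker := by
    rintro _ ⟨a, rfl⟩
    rw [hker]
    show u * ((a : S) * (u * a * u⁻¹)) = (a : S) * (u * a * u⁻¹) * u
    have h1 := hc _ (hA.conj_mem _ a.2 u) _ a.2
    calc u * ((a : S) * (u * a * u⁻¹)) = (u * a * u⁻¹) * (u * u * a * u⁻¹) := by group
      _ = (u * a * u⁻¹) * ((a : S) * u) := by rw [hu, one_mul, hui]
      _ = (u * a * u⁻¹) * (a : S) * u := by group
      _ = (a : S) * (u * a * u⁻¹) * u := by rw [h1]
  have e : Nat.card f.ker = Nat.card ↥(A ⊓ centralizer ({u} : Set S)) := by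
    refine Nat.card_congr
      { toFun := fun a => ⟨((a : ↥A) : S), Subgroup.mem_inf.2 ⟨(a : ↥A).2,
          mem_centralizer_singleton_iff.2 ((hker _).1 a.2).symm⟩⟩
        invFun := fun a => ⟨⟨a.1, a.2.1⟩, (hker _).2 (mem_centralizer_singleton_iff.1 a.2.2).symm⟩
        left_inv := fun a => rfl
        right_inv := fun a => rfl }
  have h1 := f.ker.card_mul_index
  rw [Subgroup.index_ker] at h1
  have h2 := Subgroup.card_le_of_le hrk
  rw [← e]
  obtain ⟨n, hn⟩ := IsPGroup.iff_card.1 ((hp.to_subgroup A).to_subgroup f.ker)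
  have h3 : 8 ≤ Nat.card f.ker * Nat.card f.ker := h8.trans (h1 ▸ Nat.mul_le_mul_left _ h2)
  rw [hn] at h3 ⊢
  rcases n with _ | _ | n
  · norm_num at h3
  · norm_num at h3
  · exact le_trans (by norm_num) (Nat.pow_le_pow_right two_pos (show 2 ≤ n + 1 + 1 by omega))

/-- Sections of `R` modulo `U` that are commutative have order at most four. -/
def AbFour (U R : Subgroup S) : Prop :=
  ∀ K : Subgroup S, K ≤ R → (∀ a ∈ K, ∀ b ∈ K, a * b * a⁻¹ * b⁻¹ ∈ U) →
    Nat.card K ≤ 4 * Nat.card ↥(K ⊓ U)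

theorem AbFour.card_le {U R K : Subgroup S} (h : AbFour U R) (hK : K ≤ R)
    (hc : ∀ a ∈ K, ∀ b ∈ K, a * b = b * a) : Nat.card K ≤ 4 * Nat.card ↥(K ⊓ U) :=
  h K hK fun a ha b hb => by rw [hc a ha b hb, mul_inv_cancel_right, mul_inv_cancel]; exact U.one_mem

theorem sup_zpowers_comm {E : Subgroup S} (hc : ∀ a ∈ E, ∀ b ∈ E, a * b = b * a) {c : S}
    (hcc : ∀ a ∈ E, a * c = c * a) :
    ∀ a ∈ E ⊔ zpowers c, ∀ b ∈ E ⊔ zpowers c, a * b = b * a := by
  haveI : IsMulCommutative ↥(Subgroup.closure ((E : Set S) ∪ {c})) :=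
    isMulCommutative_closure (by
      rintro a (ha | rfl) b (hb | rfl)
      · exact hc a ha b hb
      · exact hcc a ha
      · exact (hcc b hb).symm
      · rfl)
  intro a ha b hb
  have e : E ⊔ zpowers c = Subgroup.closure ((E : Set S) ∪ {c}) := by
    rw [Subgroup.closure_union, Subgroup.closure_eq, zpowers_eq_closure]
  rw [e] at ha hb
  exact congrArg Subtype.val (IsMulCommutative.is_comm.comm (⟨a, ha⟩ : ↥(Subgroup.closure ((E : Set S) ∪ {c}))) ⟨b, hb⟩)

theorem mem_of_card_le {E : Subgroup S} {c : S} (h : Nat.card ↥(E ⊔ zpowers c) ≤ Nat.card E) : c ∈ E :=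
  (Subgroup.eq_of_le_of_card_ge le_sup_left h).ge (le_sup_right (a := E) (mem_zpowers c))

/-- The case `|U| = 2`. -/
theorem small_two (hp : IsPGroup 2 S) {U R : Subgroup S} (hU : Nat.card U = 2)
    (hcent : ∀ u ∈ U, u ≠ 1 → centralizer ({u} : Set S) ≤ R) (hab : AbFour U R) : SmallSections S := by
  obtain ⟨x, y, hxy, -⟩ := Nat.card_eq_two_iff.1 hU
  obtain ⟨⟨u, huU⟩, hu1⟩ : ∃ u : U, u ≠ 1 := by
    by_cases h : x = 1
    · exact ⟨y, fun e => hxy (h.trans e.symm)⟩
    · exact ⟨x, h⟩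
  have hu1' : u ≠ 1 := fun e => hu1 (Subtype.ext e)
  have hU2 : ∀ v ∈ U, v = 1 ∨ v = u := fun v hv => by
    obtain ⟨p, q, hpq, hall⟩ := Nat.card_eq_two_iff.1 hU
    have h1 : (⟨v, hv⟩ : U) ∈ ({p, q} : Set U) := hall ▸ Set.mem_univ _
    have h2 : (⟨u, huU⟩ : U) ∈ ({p, q} : Set U) := hall ▸ Set.mem_univ _
    have h3 : (1 : U) ∈ ({p, q} : Set U) := hall ▸ Set.mem_univ _
    simp only [Set.mem_insert_iff, Set.mem_singleton_iff] at h1 h2 h3
    by_contra hcon
    push Not at hcon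
    have n1 : (⟨v, hv⟩ : U) ≠ 1 := fun e => hcon.1 (congrArg Subtype.val e)
    have n2 : (⟨v, hv⟩ : U) ≠ ⟨u, huU⟩ := fun e => hcon.2 (congrArg Subtype.val e)
    rcases h1 with e1 | e1 <;> rcases h2 with e2 | e2 <;> rcases h3 with e3 | e3 <;>
      first
      | exact n2 (e1.trans e2.symm)
      | exact n1 (e1.trans e3.symm)
      | exact hu1 (e2.trans e3.symm)
  have huu : u * u = 1 := by
    rcases hU2 _ (U.mul_mem huU huU) with h | h
    · exact h
    · exact absurd (mul_eq_left.1 h) hu1'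
  have key : ∀ E : Subgroup S, u ∈ E → (∀ a ∈ E, ∀ b ∈ E, a * b = b * a) → E ≤ R ∧
      Nat.card E ≤ 8 ∧ (Nat.card E = 8 → centralizer (E : Set S) ≤ E) := by
    intro E huE hc
    have hER : E ≤ R := fun a ha => hcent u huU hu1' (mem_centralizer_singleton_iff.2 (hc a ha u huE))
    have hb : ∀ K : Subgroup S, Nat.card ↥(K ⊓ U) ≤ 2 := fun K =>
      (Subgroup.card_le_of_le inf_le_right).trans hU.le
    refine ⟨hER, ?_, fun h8 c hc' => mem_of_card_le (E := E) ?_⟩
    · have := hab.card_le hER hc; have := hb E; omega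
    · have hcc := mem_centralizer_iff.1 hc'
      have hle : E ⊔ zpowers c ≤ R := sup_le hER (zpowers_le.2 (hcent u huU hu1'
        (mem_centralizer_singleton_iff.2 (hcc u huE).symm)))
      have := hab.card_le hle (sup_zpowers_comm hc hcc)
      have := hb (E ⊔ zpowers c)
      omega
  by_cases h : ∃ E : Subgroup S, u ∈ E ∧ (∀ a ∈ E, ∀ b ∈ E, a * b = b * a) ∧ (∀ a ∈ E, a * a = 1) ∧
      Nat.card E = 8
  · obtain ⟨E, hE, hc, hsq, h8⟩ := h
    exact small_of_eight hp hc hsq h8 ((key E hE hc).2.2 h8)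
  refine small_of_no_eight hp fun A hA hc hsq h8 => ?_
  by_cases huA : u ∈ A
  · exact h ⟨A, huA, hc, hsq, le_antisymm (key A huA hc).2.1 h8⟩
  have h4 := four_le_cent hp hA hc hsq h8 huu
  set B := A ⊓ centralizer ({u} : Set S)
  have hBc : ∀ a ∈ B, ∀ b ∈ B, a * b = b * a := fun a ha b hb =>
    hc a (Subgroup.mem_inf.1 ha).1 b (Subgroup.mem_inf.1 hb).1
  have hBu : ∀ a ∈ B, a * u = u * a := fun a ha => mem_centralizer_singleton_iff.1 (Subgroup.mem_inf.1 ha).2
  have hcomm := sup_zpowers_comm hBc hBu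
  have hsq' : ∀ a ∈ B ⊔ zpowers u, a * a = 1 := by
    intro a ha
    obtain ⟨b, hb, v, hv, rfl⟩ := exists_mul_of_mem_sup B (zpowers u) (fun b hb v hv =>
      hcomm b (le_sup_left (b := zpowers u) hb) v (le_sup_right (a := B) hv)) a ha
    have hv' : v * v = 1 := by
      obtain ⟨k, rfl⟩ := mem_zpowers_iff.1 hv
      rw [← (Commute.refl u).mul_zpow k, huu, one_zpow]
    calc b * v * (b * v) = b * (v * b) * v := by group
      _ = (b * b) * (v * v) := by
        rw [← hcomm b (le_sup_left (b := zpowers u) hb) v (le_sup_right (a := B) hv)]; group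
      _ = 1 := by rw [hsq b (Subgroup.mem_inf.1 hb).1, hv', one_mul]
  have huB : u ∈ B ⊔ zpowers u := le_sup_right (a := B) (mem_zpowers u)
  refine h ⟨B ⊔ zpowers u, huB, hcomm, hsq', le_antisymm (key _ huB hcomm).2.1 ?_⟩
  have hlt : B < B ⊔ zpowers u := lt_of_le_of_ne le_sup_left fun e => huA (Subgroup.mem_inf.1 (e.ge huB)).1
  have := two_mul_le_of_lt hp (H := B) (K := B ⊔ zpowers u) (by
    by_contra hcon
    exact hlt.ne (Subgroup.eq_of_le_of_card_ge le_sup_left (not_lt.1 hcon)))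
  omega

/-- The data for `|U| = 4`. -/
structure Four (U U' W R : Subgroup S) : Prop where
  p2 : IsPGroup 2 S
  cardU : Nat.card U = 4
  cardU' : Nat.card U' = 4
  meet : U ⊓ U' = ⊥
  sup : U ⊔ U' = W
  leR : W ≤ R
  commW : ∀ a ∈ W, ∀ b ∈ W, a * b = b * a
  cent : ∀ u ∈ U, u ≠ 1 → centralizer ({u} : Set S) ≤ R
  centU : ∀ r ∈ R, (∀ u ∈ U, r * u = u * r) → r ∈ W
  centU' : ∀ r ∈ R, (∀ u ∈ U', r * u = u * r) → r ∈ W
  normU : ∀ r ∈ R, ∀ u ∈ U, r * u * r⁻¹ ∈ U
  normU' : ∀ r ∈ R, ∀ u ∈ U', r * u * r⁻¹ ∈ U'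
  cardR : Nat.card R ≤ 32
  alike : (∀ u ∈ U, u * u = 1) ↔ (∀ u ∈ U', u * u = 1)

namespace Four

variable {U U' W R : Subgroup S}

theorem left_le (d : Four U U' W R) : U ≤ W := d.sup ▸ le_sup_left

theorem right_le (d : Four U U' W R) : U' ≤ W := d.sup ▸ le_sup_right

theorem split (d : Four U U' W R) {w : S} (hw : w ∈ W) : ∃ a ∈ U, ∃ b ∈ U', w = a * b :=
  exists_mul_of_mem_sup U U' (fun a ha b hb => d.commW a (d.left_le ha) b (d.right_le hb)) w (d.sup.symm ▸ hw)

theorem unique (d : Four U U' W R) {a b a' b' : S} (ha : a ∈ U) (hb : b ∈ U') (ha' : a' ∈ U) (hb' : b' ∈ U')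
    (h : a * b = a' * b') : a = a' ∧ b = b' := by
  have h1 : a'⁻¹ * a = b' * b⁻¹ := by
    rw [eq_mul_inv_iff_mul_eq, mul_assoc, h, inv_mul_cancel_left]
  have h2 : a'⁻¹ * a ∈ U ⊓ U' := Subgroup.mem_inf.2 ⟨U.mul_mem (U.inv_mem ha') ha,
    h1 ▸ U'.mul_mem hb' (U'.inv_mem hb)⟩
  rw [d.meet, Subgroup.mem_bot] at h2
  obtain rfl : a' = a := inv_mul_eq_one.1 h2
  exact ⟨rfl, mul_left_cancel h⟩

theorem cardW (d : Four U U' W R) : Nat.card W = 16 := by
  have e : Nat.card (↥U × ↥U') = Nat.card ↥W := by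
    refine Nat.card_congr (Equiv.ofBijective
      (fun p => (⟨(p.1 : S) * (p.2 : S), W.mul_mem (d.left_le p.1.2) (d.right_le p.2.2)⟩ : ↥W)) ⟨?_, ?_⟩)
    · rintro ⟨a, b⟩ ⟨a', b'⟩ h
      obtain ⟨h1, h2⟩ := d.unique a.2 b.2 a'.2 b'.2 (congrArg Subtype.val h)
      exact Prod.ext (Subtype.ext h1) (Subtype.ext h2)
    · intro w
      obtain ⟨a, ha, b, hb, e⟩ := d.split w.2
      exact ⟨(⟨a, ha⟩, ⟨b, hb⟩), Subtype.ext e.symm⟩
  rw [← e, Nat.card_prod, d.cardU, d.cardU']

theorem mul_mem_of_not_mem (d : Four U U' W R) {a b : S} (ha : a ∈ R) (ha' : a ∉ W) (hb : b ∈ R)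
    (hb' : b ∉ W) : a * b ∈ W := by
  have h1 := Subgroup.card_mul_index (W.subgroupOf R)
  rw [Nat.card_congr (subgroupOfEquivOfLe d.leR).toEquiv, d.cardW] at h1
  have h2 : (W.subgroupOf R).index = 2 := by
    have h3 : (W.subgroupOf R).index ≠ 1 := fun e =>
      ha' (mem_subgroupOf.1 ((Subgroup.index_eq_one.1 e) ▸ mem_top (⟨a, ha⟩ : R)))
    have := d.cardR
    have := Subgroup.index_ne_zero_of_finite (H := W.subgroupOf R)
    omega
  exact (Subgroup.mul_mem_iff_of_index_two h2 (a := ⟨a, ha⟩) (b := ⟨b, hb⟩)).2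
    (iff_of_false ha' hb')

/-- An element of `R` outside `W` fixes two elements of each factor. -/
theorem fix_card (d : Four U U' W R) {V : Subgroup S} (hVW : V ≤ W) (hV : Nat.card V = 4)
    (hn : ∀ r ∈ R, ∀ u ∈ V, r * u * r⁻¹ ∈ V) (hcV : ∀ r ∈ R, (∀ u ∈ V, r * u = u * r) → r ∈ W)
    {t : S} (ht : t ∈ R) (htW : t ∉ W) : Nat.card ↥(V ⊓ centralizer ({t} : Set S)) = 2 := by
  obtain ⟨i, hi⟩ := card_pow_two d.p2 (V ⊓ centralizer ({t} : Set S))
  have hlt : Nat.card ↥(V ⊓ centralizer ({t} : Set S)) < 4 := by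
    refine hV ▸ lt_of_le_of_ne (Subgroup.card_le_of_le inf_le_left) fun e => htW (hcV t ht fun v hv => ?_)
    have := Subgroup.eq_of_le_of_card_ge (inf_le_left (a := V) (b := centralizer ({t} : Set S))) e.ge
    exact (mem_centralizer_singleton_iff.1 (Subgroup.mem_inf.1 (this.ge hv)).2).symm
  have hne : Nat.card ↥(V ⊓ centralizer ({t} : Set S)) ≠ 1 := by
    intro h1
    have hfix : ∀ v ∈ V, t * v * t⁻¹ = v → v = 1 := fun v hv e => by
      have : v ∈ V ⊓ centralizer ({t} : Set S) :=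
        Subgroup.mem_inf.2 ⟨hv, mem_centralizer_singleton_iff.2 (mul_inv_eq_iff_eq_mul.1 e).symm⟩
      rwa [Subgroup.card_eq_one.1 h1, Subgroup.mem_bot] at this
    obtain ⟨v, hv1⟩ : ∃ v : V, v ≠ 1 := by
      haveI : Nontrivial V := Finite.one_lt_card_iff_nontrivial.1 (by rw [hV]; norm_num)
      exact exists_ne 1
    have htt : t * t ∈ W := d.mul_mem_of_not_mem ht htW ht htW
    have hw : t * v * t⁻¹ ∈ V := hn t ht v v.2
    have h2 : t * ((v : S) * (t * v * t⁻¹)) * t⁻¹ = (v : S) * (t * v * t⁻¹) := by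
      have h3 : t * t * v = v * (t * t) := d.commW _ htt _ (hVW v.2)
      have h4 := d.commW _ (hVW v.2) _ (hVW hw)
      calc t * ((v : S) * (t * v * t⁻¹)) * t⁻¹ = (t * v * t⁻¹) * (t * t * v * (t * t)⁻¹) := by group
        _ = (t * v * t⁻¹) * v := by rw [h3, mul_inv_cancel_right]
        _ = _ := h4.symm
    have h5 := hfix _ (V.mul_mem v.2 hw) h2
    have hinv : t * v * t⁻¹ = (v : S)⁻¹ := eq_inv_of_mul_eq_one_right h5
    rcases eq_or_ne ((v : S) * v) 1 with e | e
    · exact hv1 (Subtype.ext (hfix v v.2 (by rw [hinv]; exact inv_eq_of_mul_eq_one_right e)))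
    · refine e (hfix _ (V.mul_mem v.2 v.2) ?_)
      have h6 : ((v : S) * v) * ((v : S) * v) = 1 := by
        have h7 : v ^ Nat.card V = 1 := pow_card_eq_one'
        rw [hV] at h7
        have := congrArg Subtype.val h7
        simpa [pow_succ, mul_assoc] using this
      calc t * ((v : S) * v) * t⁻¹ = (t * v * t⁻¹) * (t * v * t⁻¹) := by group
        _ = ((v : S) * v)⁻¹ := by rw [hinv, mul_inv_rev]
        _ = _ := inv_eq_of_mul_eq_one_right h6
  rw [hi] at hlt hne ⊢
  rcases i with _ | _ | i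
  · simp at hne
  · norm_num
  · exfalso
    have : 2 ^ 2 ≤ 2 ^ (i + 1 + 1) := Nat.pow_le_pow_right two_pos (by omega)
    omega

theorem small_of_involution (d : Four U U' W R) {t : S} (ht : t ∈ R) (htW : t ∉ W) (htt : t * t = 1) :
    SmallSections S := by
  set A := U ⊓ centralizer ({t} : Set S)
  set B := U' ⊓ centralizer ({t} : Set S)
  have hA := d.fix_card d.left_le d.cardU d.normU d.centU ht htW
  have hB := d.fix_card d.right_le d.cardU' d.normU' d.centU' ht htW
  have hsq2 : ∀ {V : Subgroup S}, Nat.card V = 2 → ∀ a ∈ V, a * a = 1 := fun {V} hV a ha => by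
    have h : (⟨a, ha⟩ : V) ^ Nat.card V = 1 := pow_card_eq_one'
    rw [hV, pow_two] at h
    exact congrArg Subtype.val h
  let f : ↥A × ↥B × ↥(zpowers t) →* S :=
    MonoidHom.mk' (fun p => (p.1 : S) * p.2.1 * p.2.2) (fun p q => by
      have hz : ∀ z ∈ zpowers t, ∀ a ∈ centralizer ({t} : Set S), z * a = a * z := fun z hz a ha => by
        obtain ⟨k, rfl⟩ := mem_zpowers_iff.1 hz
        exact (show Commute t a from (mem_centralizer_singleton_iff.1 ha).symm).zpow_left k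
      show ((p.1 * q.1 : ↥A) : S) * ((p.2.1 * q.2.1 : ↥B) : S) * ((p.2.2 * q.2.2 : ↥(zpowers t)) : S) = _
      simp only [Subgroup.coe_mul]
      have e1 := d.commW _ (d.left_le (Subgroup.mem_inf.1 q.1.2).1) _ (d.right_le (Subgroup.mem_inf.1 p.2.1.2).1)
      have e2 := hz _ p.2.2.2 _ (Subgroup.mem_inf.1 q.1.2).2
      have e3 := hz _ p.2.2.2 _ (Subgroup.mem_inf.1 q.2.1.2).2
      calc (p.1 : S) * q.1 * ((p.2.1 : S) * q.2.1) * ((p.2.2 : S) * q.2.2)
          = (p.1 : S) * ((q.1 : S) * p.2.1) * q.2.1 * p.2.2 * q.2.2 := by group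
        _ = (p.1 : S) * p.2.1 * q.1 * ((p.2.2 : S) * q.2.1) * q.2.2 := by rw [e1, e3]; group
        _ = (p.1 : S) * p.2.1 * ((p.2.2 : S) * q.1) * q.2.1 * q.2.2 := by rw [e2]; group
        _ = _ := by group)
  have hinj : Function.Injective f := by
    rw [injective_iff_map_eq_one]
    rintro ⟨a, b, z⟩ h
    change (a : S) * b * z = 1 at h
    have hW : (a : S) * b ∈ W :=
      W.mul_mem (d.left_le (Subgroup.mem_inf.1 a.2).1) (d.right_le (Subgroup.mem_inf.1 b.2).1)
    have hz1 : (z : S) = 1 := by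
      obtain ⟨k, hk⟩ := mem_zpowers_iff.1 z.2
      have htk : t ^ k = 1 ∨ t ^ k = t := by
        rcases Int.even_or_odd' k with ⟨m, rfl | rfl⟩
        · left; rw [zpow_mul, zpow_two, htt, one_zpow]
        · right; rw [zpow_add, zpow_mul, zpow_two, htt, one_zpow, one_mul, zpow_one]
      rcases htk with e | e
      · exact hk.symm.trans e
      · refine absurd ?_ htW
        have h2 : (z : S) = ((a : S) * b)⁻¹ := eq_inv_of_mul_eq_one_right h
        rw [← e, hk, h2]
        exact W.inv_mem hW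
    rw [hz1, mul_one] at h
    obtain ⟨h1, h2⟩ := d.unique (Subgroup.mem_inf.1 a.2).1 (Subgroup.mem_inf.1 b.2).1 U.one_mem U'.one_mem
      (h.trans (one_mul 1).symm)
    exact Prod.ext (Subtype.ext h1) (Prod.ext (Subtype.ext h2) (Subtype.ext hz1))
  have hsqf : ∀ p, p * p = (1 : ↥A × ↥B × ↥(zpowers t)) := fun p =>
    Prod.ext (Subtype.ext (hsq2 hA _ p.1.2)) (Prod.ext (Subtype.ext (hsq2 hB _ p.2.1.2)) (Subtype.ext (by
      obtain ⟨k, hk⟩ := mem_zpowers_iff.1 p.2.2.2
      show (p.2.2 : S) * p.2.2 = 1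
      rw [← hk, ← (Commute.refl t).mul_zpow, htt, one_zpow])))
  refine small_of_eight d.p2 (E := f.range) ?_ ?_ ?_ ?_
  · rintro _ ⟨p, rfl⟩ _ ⟨q, rfl⟩
    have hcm : p * q = q * p := by
      have h := hsqf (p * q)
      rw [mul_eq_one_iff_eq_inv] at h
      rw [h, mul_inv_rev, inv_eq_of_mul_eq_one_right (hsqf p), inv_eq_of_mul_eq_one_right (hsqf q)]
    rw [← map_mul, hcm, map_mul]
  · rintro _ ⟨p, rfl⟩
    rw [← map_mul, hsqf, map_one]
  · rw [Nat.card_congr (MonoidHom.ofInjective hinj).symm.toEquiv, Nat.card_prod, Nat.card_prod, hA, hB,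
      Nat.card_zpowers, Invol.orderOf_two_iff.2 ⟨htt, fun e => htW (e ▸ W.one_mem)⟩]
  intro c hc
  have hcc := mem_centralizer_iff.1 hc
  have hct : c * t = t * c := (hcc t ⟨(1, 1, ⟨t, mem_zpowers t⟩), by simp [f]⟩).symm
  obtain ⟨a₀, ha₀, ha1⟩ : ∃ a ∈ A, a ≠ (1 : S) := by
    haveI : Nontrivial A := Finite.one_lt_card_iff_nontrivial.1 (by rw [hA]; norm_num)
    obtain ⟨a, ha⟩ := exists_ne (1 : A)
    exact ⟨a, a.2, fun e => ha (Subtype.ext e)⟩
  have hcR : c ∈ R := d.cent a₀ (Subgroup.mem_inf.1 ha₀).1 ha1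
    (mem_centralizer_singleton_iff.2 (hcc a₀ ⟨(⟨a₀, ha₀⟩, 1, 1), by simp [f]⟩).symm)
  have main : ∀ w ∈ W, w * t = t * w → w ∈ f.range := by
    intro w hw hwt
    obtain ⟨a, ha, b, hb, rfl⟩ := d.split hw
    have e : (t * a * t⁻¹) * (t * b * t⁻¹) = a * b :=
      calc t * a * t⁻¹ * (t * b * t⁻¹) = t * (a * b) * t⁻¹ := by group
        _ = a * b := by rw [← hwt, mul_inv_cancel_right]
    obtain ⟨e1, e2⟩ := d.unique (d.normU t ht a ha) (d.normU' t ht b hb) ha hb e
    exact ⟨(⟨a, Subgroup.mem_inf.2 ⟨ha, mem_centralizer_singleton_iff.2 (mul_inv_eq_iff_eq_mul.1 e1).symm⟩⟩,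
      ⟨b, Subgroup.mem_inf.2 ⟨hb, mem_centralizer_singleton_iff.2 (mul_inv_eq_iff_eq_mul.1 e2).symm⟩⟩, 1),
      by simp [f]⟩
  by_cases hcW : c ∈ W
  · exact main c hcW hct
  · have h1 := main (c * t) (d.mul_mem_of_not_mem hcR hcW ht htW) (by rw [← mul_assoc, ← hct])
    have h2 : c = (c * t) * t := by rw [mul_assoc, htt, mul_one]
    rw [h2]
    exact f.range.mul_mem h1 ⟨(1, 1, ⟨t, mem_zpowers t⟩), by simp [f]⟩

theorem exponent_two_small (d : Four U U' W R) (hU : ∀ u ∈ U, u * u = 1) : SmallSections S := by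
  have hU' := d.alike.1 hU
  have hW : ∀ w ∈ W, w * w = 1 := by
    intro w hw
    obtain ⟨a, ha, b, hb, rfl⟩ := d.split hw
    calc a * b * (a * b) = a * (b * a) * b := by group
      _ = (a * a) * (b * b) := by rw [← d.commW a (d.left_le ha) b (d.right_le hb)]; group
      _ = 1 := by rw [hU a ha, hU' b hb, one_mul]
  by_cases hRW : R ≤ W
  · refine Data.smallSections (E := W) (B := U)
      ⟨d.p2, d.commW, hW, d.cardW, d.left_le, d.cardU, fun u hu hu1 => ?_⟩
    exact le_antisymm ((d.cent u hu hu1).trans hRW)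
      fun w hw => mem_centralizer_singleton_iff.2 (d.commW w hw u (d.left_le hu))
  obtain ⟨r, hr, hrW⟩ := SetLike.not_le_iff_exists.1 hRW
  have hr2 : r * r ∈ W := d.mul_mem_of_not_mem hr hrW hr hrW
  -- every element of `V` fixed by `r` is a commutator
  have hsurj : ∀ {V : Subgroup S}, V ≤ W → Nat.card V = 4 → (∀ r ∈ R, ∀ u ∈ V, r * u * r⁻¹ ∈ V) →
      (∀ r ∈ R, (∀ u ∈ V, r * u = u * r) → r ∈ W) → ∀ a ∈ V, r * a = a * r →
        ∃ c ∈ V, a = r⁻¹ * c * r * c := by
    intro V hVW hV hn hcV a ha har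
    by_cases ha1 : a = 1
    · exact ⟨1, V.one_mem, by rw [ha1]; group⟩
    obtain ⟨v, hv, hvr⟩ : ∃ v ∈ V, r * v ≠ v * r := by
      by_contra hcon
      push Not at hcon
      exact hrW (hcV r hr hcon)
    have hmem : r⁻¹ * v * r ∈ V := by simpa using hn r⁻¹ (R.inv_mem hr) v hv
    set e := r⁻¹ * v * r * v
    have he : e ∈ V := V.mul_mem hmem hv
    have he1 : e ≠ 1 := fun h => hvr (by
      have h1 : r⁻¹ * v * r = v := by
        rw [eq_inv_of_mul_eq_one_left h]; exact inv_eq_of_mul_eq_one_right (hW v (hVW hv))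
      have h2 : v * r = r * (r⁻¹ * v * r) := by group
      rw [h2, h1])
    have her : r * e = e * r := by
      have h4 := d.commW _ hr2 _ (hVW hv)
      have h1 : r * e * r⁻¹ = v * (r * v * r⁻¹) :=
        calc r * (r⁻¹ * v * r * v) * r⁻¹ = v * (r * v * r⁻¹) := by group
          _ = _ := rfl
      have h2 : r * v * r⁻¹ = r⁻¹ * v * r :=
        calc r * v * r⁻¹ = r⁻¹ * (r * r * v) * r⁻¹ := by group
          _ = r⁻¹ * (v * (r * r)) * r⁻¹ := by rw [h4]
          _ = r⁻¹ * v * r := by group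
      refine mul_inv_eq_iff_eq_mul.1 ?_
      rw [h1, h2]
      exact d.commW _ (hVW hv) _ (hVW hmem)
    refine ⟨v, hv, ?_⟩
    have hcard := d.fix_card hVW hV hn hcV hr hrW
    have hu := (Nat.card_eq_two_iff' (1 : ↥(V ⊓ centralizer ({r} : Set S)))).1 hcard
    exact congrArg Subtype.val (hu.unique
      (y₁ := ⟨a, Subgroup.mem_inf.2 ⟨ha, mem_centralizer_singleton_iff.2 har.symm⟩⟩)
      (y₂ := ⟨e, Subgroup.mem_inf.2 ⟨he, mem_centralizer_singleton_iff.2 her.symm⟩⟩)
      (fun h => ha1 (congrArg Subtype.val h)) (fun h => he1 (congrArg Subtype.val h)))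
  obtain ⟨a, ha, b, hb, hab⟩ := d.split hr2
  have hfix : (r * a * r⁻¹) * (r * b * r⁻¹) = a * b :=
    calc r * a * r⁻¹ * (r * b * r⁻¹) = r * (a * b) * r⁻¹ := by group
      _ = r * r := by rw [← hab]; group
      _ = a * b := hab
  obtain ⟨e1, e2⟩ := d.unique (d.normU r hr a ha) (d.normU' r hr b hb) ha hb hfix
  obtain ⟨c, hc, hac⟩ := hsurj d.left_le d.cardU d.normU d.centU a ha (mul_inv_eq_iff_eq_mul.1 e1)
  obtain ⟨c', hc', hbc⟩ := hsurj d.right_le d.cardU' d.normU' d.centU' b hb (mul_inv_eq_iff_eq_mul.1 e2)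
  have hw : c * c' ∈ W := W.mul_mem (d.left_le hc) (d.right_le hc')
  refine d.small_of_involution (t := r * (c * c')) (R.mul_mem hr (d.leR hw))
    (fun h => hrW (by simpa [mul_assoc] using W.mul_mem h (W.inv_mem hw))) ?_
  have hcR' : r⁻¹ * c' * r ∈ W := d.right_le (by simpa using d.normU' r⁻¹ (R.inv_mem hr) c' hc')
  have h5 : r⁻¹ * (c * c') * r * (c * c') = a * b := by
    rw [hac, hbc]
    calc r⁻¹ * (c * c') * r * (c * c') = r⁻¹ * c * r * ((r⁻¹ * c' * r) * c) * c' := by group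
      _ = r⁻¹ * c * r * (c * (r⁻¹ * c' * r)) * c' := by rw [d.commW _ hcR' c (d.left_le hc)]
      _ = _ := by group
  calc r * (c * c') * (r * (c * c')) = r * r * (r⁻¹ * (c * c') * r * (c * c')) := by group
    _ = (a * b) * (a * b) := by rw [h5, hab]
    _ = 1 := hW _ (W.mul_mem (d.left_le ha) (d.right_le hb))

/-- The case `|U| = 4`. -/
theorem small (d : Four U U' W R) : SmallSections S := by
  by_cases hinv : ∃ t ∈ R, t ∉ W ∧ t * t = 1
  · obtain ⟨t, ht, htW, htt⟩ := hinv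
    exact d.small_of_involution ht htW htt
  push Not at hinv
  by_cases hU : ∀ u ∈ U, u * u = 1
  · exact d.exponent_two_small hU
  have hU' : ¬ ∀ u ∈ U', u * u = 1 := fun h => hU (d.alike.2 h)
  have htwo : ∀ {V : Subgroup S}, V ≤ W → Nat.card V = 4 → (¬ ∀ v ∈ V, v * v = 1) →
      Nat.card {v : V // (v : S) * v = 1} ≤ 2 := by
    intro V hVW hV hne
    let P : Subgroup V :=
      { carrier := {v | (v : S) * v = 1}
        one_mem' := one_mul 1
        mul_mem' := fun {a b} ha hb => by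
          show (a : S) * b * ((a : S) * b) = 1
          calc (a : S) * b * ((a : S) * b) = (a : S) * ((b : S) * a) * b := by group
            _ = ((a : S) * a) * ((b : S) * b) := by rw [← d.commW _ (hVW a.2) _ (hVW b.2)]; group
            _ = 1 := by rw [show (a : S) * a = 1 from ha, show (b : S) * b = 1 from hb, one_mul]
        inv_mem' := fun {a} ha => by
          show (a : S)⁻¹ * (a : S)⁻¹ = 1
          rw [← mul_inv_rev, show (a : S) * a = 1 from ha, inv_one] }
    have hlt : Nat.card P < Nat.card V := lt_of_le_of_ne (Subgroup.card_le_card_group P) fun e =>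
      hne fun v hv => (Subgroup.eq_top_of_card_eq P e ▸ mem_top (⟨v, hv⟩ : V) : (⟨v, hv⟩ : V) ∈ P)
    have hdvd : Nat.card P ∣ 2 ^ 2 := by
      rw [show 2 ^ 2 = Nat.card V by rw [hV]; norm_num]
      exact P.card_subgroup_dvd_card
    obtain ⟨k, hk, hk'⟩ := (Nat.dvd_prime_pow Nat.prime_two).1 hdvd
    show Nat.card P ≤ 2
    rw [hk', hV] at hlt
    rw [hk']
    interval_cases k <;> omega
  have helem : ∀ A : Subgroup S, A ≤ R → (∀ a ∈ A, a * a = 1) → Nat.card A ≤ 4 := by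
    intro A hA hsq
    have hdec : ∀ x : A, ∃ p : {v : U // (v : S) * v = 1} × {v : U' // (v : S) * v = 1},
        (x : S) = (p.1.1 : S) * (p.2.1 : S) := by
      intro x
      have hxW : (x : S) ∈ W := by_contra fun h => hinv x (hA x.2) h (hsq _ x.2)
      obtain ⟨a, ha, b, hb, e⟩ := d.split hxW
      have e2 : (a * a) * (b * b) = 1 * 1 := by
        rw [one_mul]
        calc a * a * (b * b) = a * (a * b) * b := by group
          _ = a * (b * a) * b := by rw [d.commW a (d.left_le ha) b (d.right_le hb)]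
          _ = (a * b) * (a * b) := by group
          _ = 1 := by rw [← e, hsq _ x.2]
      obtain ⟨h1, h2⟩ := d.unique (U.mul_mem ha ha) (U'.mul_mem hb hb) U.one_mem U'.one_mem e2
      exact ⟨(⟨⟨a, ha⟩, h1⟩, ⟨⟨b, hb⟩, h2⟩), e⟩
    choose p hp using hdec
    refine (Nat.card_le_card_of_injective p fun x y e => Subtype.ext (by rw [hp x, hp y, e])).trans ?_
    rw [Nat.card_prod]
    exact (Nat.mul_le_mul (htwo d.left_le d.cardU hU) (htwo d.right_le d.cardU' hU'))
  obtain ⟨u, hu, hu1, huu⟩ : ∃ u ∈ U, u ≠ (1 : S) ∧ u * u = 1 := by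
    obtain ⟨z, hz⟩ := exists_prime_orderOf_dvd_card' (G := U) 2 (by rw [d.cardU]; norm_num)
    rw [← Subgroup.orderOf_coe] at hz
    exact ⟨z, z.2, Invol.ne_one_of_orderOf_two hz, Invol.mul_self_of_orderOf_two hz⟩
  refine small_of_no_eight d.p2 fun A hA hc hsq h8 => ?_
  have hcR : A ⊓ centralizer ({u} : Set S) ≤ R := inf_le_right.trans (d.cent u hu hu1)
  by_cases huA : u ∈ A
  · have hAR : A ≤ R := fun a ha => hcR (Subgroup.mem_inf.2 ⟨ha, mem_centralizer_singleton_iff.2 (hc a ha u huA)⟩)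
    have := helem A hAR hsq
    omega
  · set B := A ⊓ centralizer ({u} : Set S)
    have h4 : 4 ≤ Nat.card B := four_le_cent d.p2 hA hc hsq h8 huu
    have hBu : ∀ a ∈ B, a * u = u * a := fun a ha => mem_centralizer_singleton_iff.1 (Subgroup.mem_inf.1 ha).2
    have hcomm := sup_zpowers_comm (fun a ha b hb => hc a (Subgroup.mem_inf.1 ha).1 b (Subgroup.mem_inf.1 hb).1) hBu
    have hle : B ⊔ zpowers u ≤ R := sup_le hcR (zpowers_le.2 (d.leR (d.left_le hu)))
    have := helem _ hle fun a ha => by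
      obtain ⟨b, hb, v, hv, rfl⟩ := exists_mul_of_mem_sup B (zpowers u) (fun b hb v hv =>
        hcomm b (le_sup_left (b := zpowers u) hb) v (le_sup_right (a := B) hv)) a ha
      obtain ⟨k, rfl⟩ := mem_zpowers_iff.1 hv
      have hbc : Commute b (u ^ k) := hcomm b (le_sup_left (b := zpowers u) hb) _ (le_sup_right (a := B) hv)
      rw [hbc.symm.mul_mul_mul_comm, hsq b (Subgroup.mem_inf.1 hb).1, ← (Commute.refl u).mul_zpow, huu, one_zpow, one_mul]
    have hlt : B < B ⊔ zpowers u := lt_of_le_of_ne le_sup_left fun e =>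
      huA (Subgroup.mem_inf.1 (e.ge (le_sup_right (a := B) (mem_zpowers u)))).1
    have h9 : Nat.card B < Nat.card ↥(B ⊔ zpowers u) := by
      by_contra hcon
      exact hlt.ne (Subgroup.eq_of_le_of_card_ge le_sup_left (not_lt.1 hcon))
    have := two_mul_le_of_lt d.p2 h9
    omega

end Four

end Cfsg.Agent.Fus.FixFour
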