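import Mathlib
import Cfsg.Prelude.Def_TwoFusion
import Cfsg.Agent.Lib.Fus.FixFour.Basic
import Cfsg.Agent.Lib.Fus.FixFour.FourRank
import Cfsg.Agent.Lib.Fus.SClosedSE.Main

/-!
# Involutions fixing four points

With `U` the part of a Sylow 2-subgroup fixing the four fixed points of one of its involutions: either
`U` is strongly closed, giving a strongly embedded subgroup by Aschbacher's criterion (a hypothesis),
or every section of the group has 2-rank at most four.
-/

set_option autoImplicit false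

namespace Cfsg.Agent.Fus.FixFour

open Subgroup MulAction
open Cfsg.Agent.Spor.SelfCentFour
open scoped Pointwise

universe u v

/-- Aschbacher's criterion for strongly embedded subgroups, as a hypothesis. -/
def Crit : Prop :=
  ∀ {G : Type u} [Group G] [Finite G] (P : Sylow 2 G) (z : G), orderOf z = 2 →
      z ∈ (Subgroup.center ↥(P : Subgroup G)).map (P : Subgroup G).subtype → ∀ H : Subgroup G, H ≠ ⊤ →
      (∀ g : G, z ∈ H.map (MulAut.conj g).toMonoidHom ↔ g ∈ H) →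
      (∀ u : G, orderOf u = 2 → u * z = z * u → ¬ Subgroup.centralizer ({u} : Set G) ≤ H →
        Cfsg.IsStronglyEmbedded (H.subgroupOf (Subgroup.closure {x : G | IsConj z x ∧ x * u = u * x}))) →
      Cfsg.IsStronglyEmbedded (H.subgroupOf (Subgroup.normalClosure ({z} : Set G)))

/-- A commutative 2-group of permutations of four points has order at most four. -/
theorem abelian_perm_four {X : Type*} [Finite X] (hX : Nat.card X = 4) {L : Subgroup (Equiv.Perm X)}
    (hL : IsPGroup 2 L) (hc : ∀ a ∈ L, ∀ b ∈ L, a * b = b * a) : Nat.card L ≤ 4 := by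
  haveI : Fact (Nat.Prime 2) := ⟨Nat.prime_two⟩
  let e : Equiv.Perm X ≃* Equiv.Perm (Fin 4) := (Finite.equivFinOfCardEq hX).permCongrHom
  set L' := L.map e.toMonoidHom
  have hcard : Nat.card L' = Nat.card L := Subgroup.card_map_of_injective e.injective
  obtain ⟨k, hk⟩ := IsPGroup.iff_card.1 hL
  have hdvd : Nat.card L' ∣ 24 := by
    have h := L'.card_subgroup_dvd_card
    rw [Nat.card_perm, Nat.card_fin] at h
    exact h
  rw [hk] at hcard ⊢
  by_contra hlt
  have hk3 : 3 ≤ k := by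
    by_contra hc'
    exact hlt ((Nat.pow_le_pow_right two_pos (show k ≤ 2 by omega)).trans (by norm_num))
  have hk4 : k ≤ 3 := by
    by_contra hc'
    have : 2 ^ 4 ∣ 24 := (pow_dvd_pow 2 (show 4 ≤ k by omega)).trans (hcard ▸ hdvd)
    norm_num at this
  obtain rfl : k = 3 := by omega
  have hf : (Nat.card (Equiv.Perm (Fin 4))).factorization 2 = 3 := by
    rw [Nat.card_perm, Nat.card_eq_fintype_card, Fintype.card_fin,
      show Nat.factorial 4 = 2 ^ 3 * 3 from rfl,
      Nat.factorization_mul (by norm_num) (by norm_num), Finsupp.add_apply,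
      Nat.Prime.factorization_pow Nat.prime_two, Finsupp.single_eq_same,
      Nat.factorization_eq_zero_of_not_dvd (show ¬ 2 ∣ 3 by norm_num)]
  let P : Sylow 2 (Equiv.Perm (Fin 4)) := Sylow.ofCard L' (by rw [hcard, hf])
  let a : Equiv.Perm (Fin 4) := Equiv.swap 0 1
  let b : Equiv.Perm (Fin 4) := Equiv.swap 0 2 * Equiv.swap 1 3
  have ha : orderOf a = 2 := orderOf_eq_prime (by rw [pow_two]; decide) (by decide)
  have hb : orderOf b = 2 := orderOf_eq_prime (by rw [pow_two]; decide) (by decide)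
  have hab : orderOf (a * b) = 2 ^ 2 := orderOf_eq_prime_pow (n := 1) (by decide) (by decide)
  obtain ⟨Q, hQ⟩ := (Invol.isPGroup_closure_pair ha hb hab).exists_le_sylow
  have hcomm : ∀ x y : ↥(P : Subgroup (Equiv.Perm (Fin 4))), x * y = y * x := by
    rintro ⟨x, x₀, hx, rfl⟩ ⟨y, y₀, hy, rfl⟩
    refine Subtype.ext ?_
    show e.toMonoidHom x₀ * e.toMonoidHom y₀ = e.toMonoidHom y₀ * e.toMonoidHom x₀
    rw [← map_mul, hc x₀ hx y₀ hy, map_mul]
  let x : ↥(Q : Subgroup (Equiv.Perm (Fin 4))) := ⟨a, hQ Invol.left_mem_closure_pair⟩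
  let y : ↥(Q : Subgroup (Equiv.Perm (Fin 4))) := ⟨b, hQ Invol.right_mem_closure_pair⟩
  have h := hcomm ((Q.equiv P) x) ((Q.equiv P) y)
  rw [← map_mul, ← map_mul] at h
  exact (show a * b ≠ b * a by decide) (congrArg Subtype.val ((Q.equiv P).injective h))

variable {G : Type u} [Group G] [Finite G] {Ω : Type v} [MulAction G Ω] [Finite Ω]

/-- A subgroup stabilizing four points and fixing four others pointwise acts freely on the rest. -/
theorem free_on_four {S : Subgroup G} (hS : IsPGroup 2 S) {D D' : Set Ω} (hfew : Few (G := G) Ω 2 4)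
    (hD : D.ncard = 4) (hD' : D'.ncard = 4) (hne : D' ≠ D) {K : Subgroup G} (hKS : K ≤ S)
    (hK' : K ≤ fixingSubgroup G D') (hK : K ≤ stabilizer G D) :
    Nat.card K ≤ 4 ∧ (Nat.card K = 4 → ∀ d ∈ D, ∀ d' ∈ D, ∃ k ∈ K, k • d = d') := by
  haveI : Fact (Nat.Prime 2) := ⟨Nat.prime_two⟩
  obtain ⟨a, ha, ha'⟩ : ∃ a ∈ D, a ∉ D' := by
    by_contra hcon
    push Not at hcon
    exact hne (Set.eq_of_subset_of_ncard_le hcon (by omega) (Set.toFinite _)).symm
  let f : ↥K → ↥D := fun k => ⟨(k : G) • a, by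
    have h := Set.smul_mem_smul_set (a := (k : G)) ha
    rwa [mem_stabilizer_iff.1 (hK k.2)] at h⟩
  have hf : Function.Injective f := fun k l h => by
    have h1 : (l : G)⁻¹ * k ∈ K := K.mul_mem (K.inv_mem l.2) k.2
    by_contra hne'
    have h2 : (l : G)⁻¹ * k ≠ 1 := fun e => hne' (Subtype.ext (inv_mul_eq_one.1 e).symm)
    refine ha' ((fixed_eq (by rwa [hD']) hS (hKS h1) h2 (hK' h1)).le ?_)
    show ((l : G)⁻¹ * k) • a = a
    have h3 : (k : G) • a = (l : G) • a := congrArg Subtype.val h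
    rw [mul_smul, h3, inv_smul_smul]
  have hle : Nat.card K ≤ Nat.card ↥D := Nat.card_le_card_of_injective f hf
  rw [Nat.card_coe_set_eq, hD] at hle
  refine ⟨hle, fun h4 d hd d' hd' => ?_⟩
  have hb := Function.Injective.bijective_of_nat_card_le hf (by rw [Nat.card_coe_set_eq, hD, h4])
  obtain ⟨k, hk⟩ := hb.2 ⟨d, hd⟩
  obtain ⟨l, hl⟩ := hb.2 ⟨d', hd'⟩
  refine ⟨l * (k : G)⁻¹, K.mul_mem l.2 (K.inv_mem k.2), ?_⟩
  have h1 : (k : G) • a = d := congrArg Subtype.val hk
  have h2 : (l : G) • a = d' := congrArg Subtype.val hl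
  rw [mul_smul, ← h1, inv_smul_smul, h2]

/-- An element commuting with a subgroup transitive on a set is a member times a fixer. -/
theorem split_of_transitive {D : Set Ω} (hne : D.Nonempty) {K : Subgroup G}
    (htr : ∀ d ∈ D, ∀ d' ∈ D, ∃ k ∈ K, k • d = d') (hcK : ∀ a ∈ K, ∀ b ∈ K, a * b = b * a) {r : G}
    (hr : r ∈ stabilizer G D) (hc : ∀ k ∈ K, r * k = k * r) : ∃ k ∈ K, k⁻¹ * r ∈ fixingSubgroup G D := by
  obtain ⟨a, ha⟩ := hne
  have hra : r • a ∈ D := by
    have h := Set.smul_mem_smul_set (a := r) ha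
    rwa [mem_stabilizer_iff.1 hr] at h
  obtain ⟨k, hk, e⟩ := htr a ha _ hra
  refine ⟨k, hk, (mem_fixingSubgroup_iff G).2 fun d hd => ?_⟩
  obtain ⟨l, hl, rfl⟩ := htr a ha d hd
  have h1 : Commute (k⁻¹ * r) l :=
    Commute.mul_left (Commute.inv_left (hcK k hk l hl)) (hc l hl)
  have h2 : (k⁻¹ * r) • a = a := by rw [mul_smul, ← e, inv_smul_smul]
  rw [smul_smul, h1.eq, mul_smul, h2]

theorem abFour_of {S : Subgroup G} (hS : IsPGroup 2 S) {D : Set Ω} (hD : D.ncard = 4) :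
    AbFour ((S ⊓ fixingSubgroup G D).subgroupOf S) ((S ⊓ stabilizer G D).subgroupOf S) := by
  haveI : Fact (Nat.Prime 2) := ⟨Nat.prime_two⟩
  intro K hK hc
  set K' := K.map S.subtype
  have hK'S : K' ≤ S := Subgroup.map_subtype_le K
  obtain ⟨L, hL, hcard, habel⟩ := exists_image (D := D) (hS.to_le hK'S) (by
    rintro _ ⟨k, hk, rfl⟩
    exact (Subgroup.mem_inf.1 (mem_subgroupOf.1 (hK hk))).2)
  have hL4 := abelian_perm_four (by rw [Nat.card_coe_set_eq, hD]) hL (habel (by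
    rintro _ ⟨a, ha, rfl⟩ _ ⟨b, hb, rfl⟩
    exact (Subgroup.mem_inf.1 (mem_subgroupOf.1 (hc a ha b hb))).2))
  have e : Nat.card ↥(K' ⊓ fixingSubgroup G D) ≤
      Nat.card ↥(K ⊓ (S ⊓ fixingSubgroup G D).subgroupOf S) := by
    rw [← Subgroup.card_map_of_injective (K := K ⊓ (S ⊓ fixingSubgroup G D).subgroupOf S) S.subtype_injective]
    refine Subgroup.card_le_of_le fun g hg => ?_
    obtain ⟨k, hk, rfl⟩ := (Subgroup.mem_inf.1 hg).1
    exact ⟨k, Subgroup.mem_inf.2 ⟨hk, mem_subgroupOf.2 (Subgroup.mem_inf.2 ⟨k.2, (Subgroup.mem_inf.1 hg).2⟩)⟩, rfl⟩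
  rw [← Subgroup.card_map_of_injective (K := K) S.subtype_injective]
  show Nat.card K' ≤ _
  rw [hcard, mul_comm 4]
  exact Nat.mul_le_mul e hL4

theorem cent_le_stab {S : Subgroup G} (hS : IsPGroup 2 S) {D : Set Ω} (hfew : Few (G := G) Ω 2 D.ncard) :
    ∀ u ∈ (S ⊓ fixingSubgroup G D).subgroupOf S, u ≠ 1 →
      centralizer ({u} : Set S) ≤ (S ⊓ stabilizer G D).subgroupOf S := by
  haveI : Fact (Nat.Prime 2) := ⟨Nat.prime_two⟩
  exact fun u hu hu1 c hc => mem_subgroupOf.2 (Subgroup.mem_inf.2 ⟨c.2,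
    mem_stab_of_commute hfew hS u.2 (fun e => hu1 (Subtype.ext e)) (Subgroup.mem_inf.1 (mem_subgroupOf.1 hu)).2
      (congrArg Subtype.val (mem_centralizer_singleton_iff.1 hc))⟩)

theorem conj_mem_of_stab {D : Set Ω} {g y : G} (hg : g ∈ stabilizer G D) (hy : y ∈ fixingSubgroup G D) :
    g * y * g⁻¹ ∈ fixingSubgroup G D := by
  have h := (conj_mem_fixing (g := g)).2 hy
  rwa [mem_stabilizer_iff.1 hg] at h

/-- The kernel on four points is not normal: small sections. -/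
theorem small_of_moving {S : Subgroup G} (hS : IsPGroup 2 S) {D : Set Ω} (hfew : Few (G := G) Ω 2 4)
    (hD : D.ncard = 4) {t : G} (htS : t ∈ S) (ht : orderOf t = 2) (htD : fixedBy Ω t = D)
    (hmove : ¬ S ≤ stabilizer G D) : SmallSections ↥S := by
  haveI : Fact (Nat.Prime 2) := ⟨Nat.prime_two⟩
  obtain ⟨x, hxS, hxD, hxn⟩ := exists_moving hS hmove
  set R := S ⊓ stabilizer G D with hR
  set U := S ⊓ fixingSubgroup G D with hU
  set U' := U.map (MulAut.conj x).toMonoidHom with hU'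
  have hUR : U ≤ R := inf_le_inf_left S (fixing_le_stab D)
  have hU'R : U' ≤ R := by rintro _ ⟨y, hy, rfl⟩; exact (hxn y).1 (hUR hy)
  have hRD' : R ≤ stabilizer G (x • D) := fun r hr => by
    have h1 : x * (x⁻¹ * r * x) * x⁻¹ = r := by group
    have h2 : x⁻¹ * r * x ∈ R := (hxn _).2 (by rw [h1]; exact hr)
    rw [← h1]
    exact conj_mem_stab.2 (Subgroup.mem_inf.1 h2).2
  have hU'fix : ∀ y : G, y ∈ U' ↔ y ∈ S ∧ y ∈ fixingSubgroup G (x • D) := by
    intro y
    constructor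
    · rintro ⟨z, hz, rfl⟩
      exact ⟨(Subgroup.mem_inf.1 (hU'R ⟨z, hz, rfl⟩)).1, conj_mem_fixing.2 (Subgroup.mem_inf.1 hz).2⟩
    · rintro ⟨hy, hy'⟩
      refine ⟨x⁻¹ * y * x, Subgroup.mem_inf.2 ⟨S.mul_mem (S.mul_mem (S.inv_mem hxS) hy) hxS, ?_⟩,
        by simp [mul_assoc]⟩
      refine (conj_mem_fixing (g := x)).1 ?_
      simpa [mul_assoc] using hy'
  have hD' : (x • D).ncard = 4 := by rw [ncard_smul, hD]
  have hmeet : ∀ y ∈ U, y ∈ U' → y = 1 := fun y hy hy' =>
    eq_one_of_fix_two (by rwa [hD]) (ncard_smul x D) hxD hS (Subgroup.mem_inf.1 hy).1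
      (Subgroup.mem_inf.1 hy).2 ((hU'fix y).1 hy').2
  have hcU : Nat.card U' = Nat.card U := Subgroup.card_map_of_injective (MulAut.conj x).injective
  obtain ⟨hle, htr'⟩ := free_on_four hS hfew hD hD' hxD (K := U') (fun y hy => ((hU'fix y).1 hy).1)
    (fun y hy => ((hU'fix y).1 hy).2) (hU'R.trans inf_le_right)
  obtain ⟨-, htr⟩ := free_on_four hS hfew hD' hD (Ne.symm hxD) (K := U) inf_le_left inf_le_right
    (hUR.trans hRD')
  have htU : t ∈ U := Subgroup.mem_inf.2 ⟨htS, mem_fixing.2 htD.ge⟩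
  obtain ⟨i, hi⟩ := IsPGroup.iff_card.1 (hS.to_le (inf_le_left : U ≤ S))
  have hi1 : i ≠ 0 := fun e => by
    rw [e, pow_zero] at hi
    exact Invol.ne_one_of_orderOf_two ht (Subgroup.mem_bot.1 (Subgroup.card_eq_one.1 hi ▸ htU))
  have hi2 : i ≤ 2 := by
    by_contra hc
    have h1 := Nat.pow_le_pow_right two_pos (show 3 ≤ i by omega)
    have h2 : 2 ^ i ≤ 4 := hi ▸ hcU ▸ hle
    omega
  have hcardU : Nat.card ↥(U.subgroupOf S) = Nat.card U :=
    Nat.card_congr (subgroupOfEquivOfLe inf_le_left).toEquiv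
  have hcentR := cent_le_stab hS (D := D) (by rwa [hD])
  rcases (show i = 1 ∨ i = 2 by omega) with rfl | rfl
  · exact small_two hS (by rw [hcardU, hi]; norm_num) hcentR (abFour_of hS hD)
  have h4 : Nat.card U = 4 := by rw [hi]; norm_num
  haveI : IsMulCommutative U := IsPGroup.isMulCommutative_of_card_eq_prime_sq (p := 2) (by rw [h4]; norm_num)
  haveI : IsMulCommutative U' := IsPGroup.isMulCommutative_of_card_eq_prime_sq (p := 2) (by rw [hcU, h4]; norm_num)
  have hUc : ∀ a ∈ U, ∀ b ∈ U, a * b = b * a := fun a ha b hb =>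
    congrArg Subtype.val (IsMulCommutative.is_comm.comm (⟨a, ha⟩ : U) ⟨b, hb⟩)
  have hU'c : ∀ a ∈ U', ∀ b ∈ U', a * b = b * a := fun a ha b hb =>
    congrArg Subtype.val (IsMulCommutative.is_comm.comm (⟨a, ha⟩ : U') ⟨b, hb⟩)
  have hnU : ∀ r ∈ R, ∀ u ∈ U, r * u * r⁻¹ ∈ U := fun r hr u hu => Subgroup.mem_inf.2
    ⟨S.mul_mem (S.mul_mem (Subgroup.mem_inf.1 hr).1 (Subgroup.mem_inf.1 hu).1) (S.inv_mem (Subgroup.mem_inf.1 hr).1),
      conj_mem_of_stab (Subgroup.mem_inf.1 hr).2 (Subgroup.mem_inf.1 hu).2⟩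
  have hnU' : ∀ r ∈ R, ∀ u ∈ U', r * u * r⁻¹ ∈ U' := fun r hr u hu => (hU'fix _).2
    ⟨S.mul_mem (S.mul_mem (Subgroup.mem_inf.1 hr).1 ((hU'fix u).1 hu).1) (S.inv_mem (Subgroup.mem_inf.1 hr).1),
      conj_mem_of_stab (hRD' hr) ((hU'fix u).1 hu).2⟩
  have hcomm : ∀ a ∈ U, ∀ b ∈ U', a * b = b * a := fun a ha b hb => by
    have h1 : a * b * a⁻¹ * b⁻¹ ∈ U := by
      have := U.mul_mem ha (hnU b (hU'R hb) a⁻¹ (U.inv_mem ha))
      simpa [mul_assoc] using this
    have h2 : a * b * a⁻¹ * b⁻¹ ∈ U' := U'.mul_mem (hnU' a (hUR ha) b hb) (U'.inv_mem hb)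
    have h3 := hmeet _ h1 h2
    rw [mul_inv_eq_one, mul_inv_eq_iff_eq_mul] at h3
    exact h3
  have hne : D.Nonempty := Set.nonempty_of_ncard_ne_zero (by rw [hD]; norm_num)
  set W := U ⊔ U' with hW
  have hWR : W ≤ R := sup_le hUR hU'R
  have hWc : ∀ a ∈ W, ∀ b ∈ W, a * b = b * a := by
    haveI : IsMulCommutative ↥(Subgroup.closure ((U : Set G) ∪ (U' : Set G))) :=
      isMulCommutative_closure (by
        rintro a (ha | ha) b (hb | hb)
        · exact hUc a ha b hb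
        · exact hcomm a ha b hb
        · exact (hcomm b hb a ha).symm
        · exact hU'c a ha b hb)
    intro a ha b hb
    rw [hW, show U ⊔ U' = Subgroup.closure ((U : Set G) ∪ (U' : Set G)) by
      rw [Subgroup.closure_union, Subgroup.closure_eq, Subgroup.closure_eq]] at ha hb
    exact congrArg Subtype.val (IsMulCommutative.is_comm.comm
      (⟨a, ha⟩ : ↥(Subgroup.closure ((U : Set G) ∪ (U' : Set G)))) ⟨b, hb⟩)
  have hsup : U.subgroupOf S ⊔ U'.subgroupOf S = W.subgroupOf S :=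
    (Subgroup.subgroupOf_sup inf_le_left (hU'R.trans inf_le_left)).symm
  have hconjS : ∀ y : S, ∀ K : Subgroup G, y ∈ K.subgroupOf S ↔ (y : G) ∈ K := fun y K => mem_subgroupOf
  refine Four.small (U := U.subgroupOf S) (U' := U'.subgroupOf S) (W := W.subgroupOf S) (R := R.subgroupOf S)
    { p2 := hS
      cardU := by rw [hcardU, h4]
      cardU' := by rw [Nat.card_congr (subgroupOfEquivOfLe (hU'R.trans inf_le_left)).toEquiv, hcU, h4]
      meet := (Subgroup.eq_bot_iff_forall _).2 fun y hy =>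
        Subtype.ext (hmeet _ (mem_subgroupOf.1 (Subgroup.mem_inf.1 hy).1) (mem_subgroupOf.1 (Subgroup.mem_inf.1 hy).2))
      sup := hsup
      leR := Subgroup.comap_mono hWR
      commW := fun a ha b hb => Subtype.ext (hWc _ (mem_subgroupOf.1 ha) _ (mem_subgroupOf.1 hb))
      cent := hcentR
      centU := ?_
      centU' := ?_
      normU := fun r hr u hu => mem_subgroupOf.2 (hnU _ (mem_subgroupOf.1 hr) _ (mem_subgroupOf.1 hu))
      normU' := fun r hr u hu => mem_subgroupOf.2 (hnU' _ (mem_subgroupOf.1 hr) _ (mem_subgroupOf.1 hu))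
      cardR := ?_
      alike := ?_ }
  · intro r hr hc
    obtain ⟨k, hk, h⟩ := split_of_transitive (D := x • D)
      (Set.nonempty_of_ncard_ne_zero (by rw [hD']; norm_num)) (htr h4) hUc
      (hRD' (mem_subgroupOf.1 hr)) (fun k hk =>
        congrArg Subtype.val (hc ⟨k, (Subgroup.mem_inf.1 hk).1⟩ (mem_subgroupOf.2 hk)))
    have h2 : k⁻¹ * (r : G) ∈ U' := (hU'fix _).2 ⟨S.mul_mem (S.inv_mem (Subgroup.mem_inf.1 hk).1) r.2, h⟩
    refine mem_subgroupOf.2 ?_
    simpa using W.mul_mem ((le_sup_left : U ≤ W) hk) ((le_sup_right : U' ≤ W) h2)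
  · intro r hr hc
    obtain ⟨k, hk, h⟩ := split_of_transitive hne (htr' (hcU.trans h4)) hU'c
      (Subgroup.mem_inf.1 (mem_subgroupOf.1 hr)).2 (fun k hk =>
        congrArg Subtype.val (hc ⟨k, ((hU'fix k).1 hk).1⟩ (mem_subgroupOf.2 hk)))
    have h2 : k⁻¹ * (r : G) ∈ U := Subgroup.mem_inf.2 ⟨S.mul_mem (S.inv_mem ((hU'fix k).1 hk).1) r.2, h⟩
    refine mem_subgroupOf.2 ?_
    simpa using W.mul_mem ((le_sup_right : U' ≤ W) hk) ((le_sup_left : U ≤ W) h2)
  · rw [Nat.card_congr (subgroupOfEquivOfLe (inf_le_left : R ≤ S)).toEquiv]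
    refine (card_le_of_meet (D := D) (b := 8) (hS.to_le inf_le_left) inf_le_right
      fun k hk => pow_two_le_eight hD.le hk).trans ?_
    exact (Nat.mul_le_mul_right 8 (Subgroup.card_le_of_le
      (show R ⊓ fixingSubgroup G D ≤ U from inf_le_inf_right _ inf_le_left))).trans (by rw [h4])
  · constructor
    · intro h u hu
      obtain ⟨z, hz, e⟩ := mem_subgroupOf.1 hu
      have h1 := congrArg Subtype.val (h ⟨z, (Subgroup.mem_inf.1 hz).1⟩ (mem_subgroupOf.2 hz))
      refine Subtype.ext ?_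
      show (u : G) * u = 1
      rw [← e, ← map_mul, show z * z = 1 from h1, map_one]
    · intro h u hu
      have hz : (MulAut.conj x) (u : G) ∈ U' := ⟨u, mem_subgroupOf.1 hu, rfl⟩
      have h1 := congrArg Subtype.val (h ⟨_, ((hU'fix _).1 hz).1⟩ (mem_subgroupOf.2 hz))
      refine Subtype.ext ((MulAut.conj x).injective ?_)
      show (MulAut.conj x) ((u : G) * u) = (MulAut.conj x) 1
      rw [map_mul, map_one]
      exact h1

theorem four [IsSimpleGroup G] [IsPretransitive G Ω] (hA : Crit.{u}) {D : Set Ω} (hD : D.ncard = 4)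
    (hD' : D ≠ Set.univ) (hfew : Few (G := G) Ω 2 4) {t : G} (ht : orderOf t = 2) (htD : fixedBy Ω t = D) :
    (∃ H : Subgroup G, Cfsg.IsStronglyEmbedded H) ∨ Cfsg.SectionalPRankLE 2 4 G := by
  haveI : Fact (Nat.Prime 2) := ⟨Nat.prime_two⟩
  obtain ⟨S, hS⟩ := (Invol.isPGroup_zpowers (n := 1) (x := t) (by rw [ht, pow_one])).exists_le_sylow (p := 2)
  have htS : t ∈ (S : Subgroup G) := hS (mem_zpowers t)
  have hp : IsPGroup 2 ↥(S : Subgroup G) := S.isPGroup'
  by_cases hmove : ∃ v ∈ (S : Subgroup G), orderOf v = 2 ∧ (fixedBy Ω v).ncard = 4 ∧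
      ¬ (S : Subgroup G) ≤ stabilizer G (fixedBy Ω v)
  · obtain ⟨v, hv, hv2, hv4, hm⟩ := hmove
    exact Or.inr (sectional_of_sylow S (small_of_moving hp hfew hv4 hv hv2 rfl hm))
  push Not at hmove
  have hSD : (S : Subgroup G) ≤ stabilizer G D := htD ▸ hmove t htS ht (by rw [htD, hD])
  set U := (S : Subgroup G) ⊓ fixingSubgroup G D with hU
  by_cases huniq : ∀ v ∈ (S : Subgroup G), orderOf v = 2 → (fixedBy Ω v).ncard = 4 → fixedBy Ω v = D
  · left
    refine SClosedSE.s1174_of hA S U (fun e => Invol.ne_one_of_orderOf_two ht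
      (Subgroup.mem_bot.1 (e ▸ Subgroup.mem_inf.2 ⟨htS, mem_fixing.2 htD.ge⟩))) ⟨inf_le_left, fun y hy g hg => ?_⟩ ?_
    · by_cases hy1 : y = 1
      · rw [hy1, mul_one, mul_inv_cancel]; exact U.one_mem
      refine Subgroup.mem_inf.2 ⟨hg, ?_⟩
      have hgy : g * y * g⁻¹ ≠ 1 := fun e => hy1 (conj_eq_one_iff.1 e)
      obtain ⟨k, hk⟩ := exists_prime_power_of_pGroup hp hg hgy
      have hgD := (conj_mem_fixing (g := g)).2 (Subgroup.mem_inf.1 hy).2
      have h1 : fixedBy Ω ((g * y * g⁻¹) ^ k) = g • D := fixed_eq (by rwa [ncard_smul, hD]) hp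
        ((S : Subgroup G).pow_mem hg k) (Invol.ne_one_of_orderOf_two hk) (pow_mem hgD k)
      have h2 := huniq _ ((S : Subgroup G).pow_mem hg k) hk (by rw [h1, ncard_smul, hD])
      rw [h1] at h2
      rwa [h2] at hgD
    · refine ne_top_of_le_ne_top (stab_ne_top (Set.nonempty_of_ncard_ne_zero (by rw [hD]; norm_num)) hD')
        (iSup_le fun u c hc => ?_)
      exact mem_stab_of_commute (by rwa [hD]) hp (Subgroup.mem_inf.1 u.2.1).1
        (Invol.ne_one_of_orderOf_two u.2.2) (Subgroup.mem_inf.1 u.2.1).2 (mem_centralizer_singleton_iff.1 hc)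
  right
  push Not at huniq
  obtain ⟨v, hv, hv2, hv4, hne⟩ := huniq
  -- a second four-point set: the Sylow subgroup has order at most 32
  have hU4 : Nat.card U ≤ 4 := (free_on_four hp hfew hv4 hD (Ne.symm hne) (K := U) inf_le_left inf_le_right
    (inf_le_left.trans (hmove v hv hv2 hv4))).1
  have h32 : Nat.card ↥(S : Subgroup G) ≤ 32 := by
    refine (card_le_of_meet (D := D) (b := 8) hp hSD fun k hk => pow_two_le_eight hD.le hk).trans ?_
    have : Nat.card ↥((S : Subgroup G) ⊓ fixingSubgroup G D) ≤ 4 := hU4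
    omega
  refine sectional_of_sylow S fun H K hKH hsq hcom => ?_
  by_contra hlt
  obtain ⟨m, hm⟩ := card_pow_two hp K
  obtain ⟨l, hl⟩ := card_pow_two hp H
  have hH32 := (Subgroup.card_le_card_group H).trans h32
  rw [hm, hl] at hlt
  rw [hl] at hH32
  have h5 : 4 < l := (Nat.pow_lt_pow_iff_right (le_refl 2)).1
    (lt_of_le_of_lt (by have := Nat.one_le_two_pow (n := m); omega) (not_le.1 hlt))
  have hl5 : l ≤ 5 := (Nat.pow_le_pow_iff_right (le_refl 2)).1 (hH32.trans (by norm_num))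
  have hm0 : m = 0 := by
    by_contra hne'
    have h2 : 2 ≤ 2 ^ m := Nat.le_self_pow hne' 2
    omega
  obtain rfl : l = 5 := by omega
  have hK1 : K = ⊥ := Subgroup.card_eq_one.1 (by rw [hm, hm0, pow_zero])
  have hHR : H ≤ ((S : Subgroup G) ⊓ stabilizer G D).subgroupOf (S : Subgroup G) := fun h _ =>
    mem_subgroupOf.2 (Subgroup.mem_inf.2 ⟨h.2, hSD h.2⟩)
  have h16 := abFour_of hp hD H hHR fun a ha b hb => by
    have h := hcom a ha b hb
    rw [hK1, Subgroup.mem_bot] at h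
    rw [h]
    exact Subgroup.one_mem _
  have h4' : Nat.card ↥(H ⊓ U.subgroupOf (S : Subgroup G)) ≤ 4 := by
    refine (Subgroup.card_le_of_le inf_le_right).trans ?_
    rwa [Nat.card_congr (subgroupOfEquivOfLe inf_le_left).toEquiv]
  rw [hl] at h16
  have h17 := h16.trans (Nat.mul_le_mul_left 4 h4')
  norm_num at h17

end Cfsg.Agent.Fus.FixFour
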