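import Mathlib
import Cfsg.Prelude.Def_CaseTheorems
import Cfsg.Agent.Lib.Fus.FixFour.Basic
import Cfsg.Agent.S0111
import Cfsg.Agent.S3390

/-!
# Involutions fixing at most three points

In a simple transitive group whose involutions fix at most `d ≤ 3` points, one of them exactly `d`,
either a setwise stabilizer is strongly embedded or the Sylow 2-subgroups are dihedral or semidihedral.
-/

set_option autoImplicit false

namespace Cfsg.Agent.Fus.FixFour

open Subgroup MulAction
open scoped Pointwise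

universe u v

variable {G : Type u} [Group G] [Finite G]

theorem exists_central_inv {P : Subgroup G} (hP : IsPGroup 2 P) (hne : P ≠ ⊥) :
    ∃ z ∈ P, orderOf z = 2 ∧ ∀ s ∈ P, Commute s z := by
  haveI : Fact (Nat.Prime 2) := ⟨Nat.prime_two⟩
  haveI : Nontrivial P := P.nontrivial_iff_ne_bot.2 hne
  haveI := hP.center_nontrivial
  obtain ⟨i, hi⟩ := IsPGroup.iff_card.1 (hP.to_subgroup (Subgroup.center P))
  obtain ⟨z, hz⟩ := exists_prime_orderOf_dvd_card' (G := Subgroup.center P) 2 (by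
    rw [hi]
    refine dvd_pow_self 2 fun h => ?_
    rw [h, pow_zero] at hi
    exact absurd hi (Finite.one_lt_card (α := Subgroup.center P)).ne')
  refine ⟨((z : P) : G), (z : P).2, by rw [Subgroup.orderOf_coe, Subgroup.orderOf_coe]; exact hz, fun s hs => ?_⟩
  exact congrArg Subtype.val (Subgroup.mem_center_iff.1 z.2 ⟨s, hs⟩)

theorem not_index_two [IsSimpleGroup G] (hna : ¬ IsMulCommutative G) {M : Subgroup G} (hM : M.Normal) :
    M.index ≠ 2 := by
  intro h
  rcases hM.eq_bot_or_eq_top with e | e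
  · rw [e, Subgroup.index_bot] at h
    haveI : Fact (Nat.Prime 2) := ⟨Nat.prime_two⟩
    haveI := isCyclic_of_prime_card h
    exact hna inferInstance
  · rw [e, Subgroup.index_top] at h; omega

/-- An involution with a centralizer of order at most four in a 2-group. -/
theorem dihedral_of_cent_le {S : Subgroup G} (hS : IsPGroup 2 S) {w z : G} (hw : w ∈ S) (hz : z ∈ S)
    (hw2 : orderOf w = 2) (hz2 : orderOf z = 2) (hne : w ≠ z) (hc : Commute z w)
    (hle : Nat.card ↥(S ⊓ centralizer ({w} : Set G)) ≤ 4) :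
    (∃ n : ℕ, Nonempty (↥S ≃* DihedralGroup n)) ∨ Cfsg.IsQuasiDihedral ↥S := by
  classical
  set r : S := ⟨w, hw⟩
  set z' : S := ⟨z, hz⟩
  refine S3390.dihedral_or_sd hS r z' (Subtype.ext (Invol.mul_self_of_orderOf_two hw2))
    (Subtype.ext (Invol.mul_self_of_orderOf_two hz2))
    (fun e => Invol.ne_one_of_orderOf_two hw2 (congrArg Subtype.val e))
    (fun e => Invol.ne_one_of_orderOf_two hz2 (congrArg Subtype.val e))
    (fun e => hne (congrArg Subtype.val e)) (Subtype.ext hc.eq) ?_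
  refine le_antisymm (le_trans (le_of_eq ?_) hle) ?_
  · refine Nat.card_congr
      { toFun := fun c => ⟨((c : S) : G), Subgroup.mem_inf.2 ⟨(c : S).2, mem_centralizer_singleton_iff.2
          (congrArg Subtype.val (mem_centralizer_singleton_iff.1 c.2))⟩⟩
        invFun := fun c => ⟨⟨c.1, c.2.1⟩, mem_centralizer_singleton_iff.2
          (Subtype.ext (mem_centralizer_singleton_iff.1 c.2.2))⟩
        left_inv := fun c => rfl
        right_inv := fun c => rfl }
  have hrC : r ∈ centralizer ({r} : Set S) := mem_centralizer_singleton_iff.2 rfl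
  have hzC : z' ∈ centralizer ({r} : Set S) := mem_centralizer_singleton_iff.2 (Subtype.ext hc.eq)
  haveI : Fact (Nat.Prime 2) := ⟨Nat.prime_two⟩
  obtain ⟨i, hi⟩ := IsPGroup.iff_card.1 (hS.to_subgroup (centralizer ({r} : Set S)))
  haveI := Fintype.ofFinite (centralizer ({r} : Set S))
  have h3 : 3 ≤ Nat.card (centralizer ({r} : Set S)) := by
    rw [Nat.card_eq_fintype_card]
    refine le_trans (le_of_eq ?_)
      (Finset.card_le_univ ({1, ⟨r, hrC⟩, ⟨z', hzC⟩} : Finset (centralizer ({r} : Set S))))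
    rw [Finset.card_insert_of_notMem (by
        simp [Subtype.ext_iff, r, z']
        exact ⟨(Invol.ne_one_of_orderOf_two hw2).symm, (Invol.ne_one_of_orderOf_two hz2).symm⟩),
      Finset.card_pair (by simpa [Subtype.ext_iff, r, z'] using hne)]
  rw [hi] at h3 ⊢
  rcases i with _ | _ | i
  · omega
  · omega
  · exact le_trans (by norm_num) (Nat.pow_le_pow_right two_pos (show 2 ≤ i + 1 + 1 by omega))

theorem isQuasiDihedral_congr {A B : Type*} [Group A] [Group B] (e : A ≃* B)
    (h : Cfsg.IsQuasiDihedral A) : Cfsg.IsQuasiDihedral B := by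
  obtain ⟨n, hn, hcard, x, y, hx, hy, hxy⟩ := h
  exact ⟨n, hn, (Nat.card_congr e.toEquiv).symm.trans hcard, e x, e y, by rw [MulEquiv.orderOf_eq, hx],
    by rw [MulEquiv.orderOf_eq, hy], by rw [← map_inv, ← map_mul, ← map_mul, hxy, map_pow]⟩

variable {Ω : Type v} [MulAction G Ω] [Finite Ω]

theorem small [IsSimpleGroup G] (hna : ¬ IsMulCommutative G) [IsPretransitive G Ω] {D : Set Ω}
    (hD1 : D.Nonempty) (hD3 : D.ncard ≤ 3) (hD : D ≠ Set.univ) (hfew : Few (G := G) Ω 2 D.ncard)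
    {t : G} (ht : orderOf t = 2) (htD : fixedBy Ω t = D) (S : Sylow 2 G) :
    (∃ H : Subgroup G, Cfsg.IsStronglyEmbedded H) ∨
      ((∃ n : ℕ, Nonempty (↥(S : Subgroup G) ≃* DihedralGroup n)) ∨ Cfsg.IsQuasiDihedral ↥(S : Subgroup G)) := by
  haveI : Fact (Nat.Prime 2) := ⟨Nat.prime_two⟩
  obtain ⟨S₀, hS₀⟩ := (Invol.isPGroup_zpowers (n := 1) (x := t) (by rw [ht, pow_one])).exists_le_sylow (p := 2)
  have htS : t ∈ (S₀ : Subgroup G) := hS₀ (mem_zpowers t)
  suffices h : (∃ H : Subgroup G, Cfsg.IsStronglyEmbedded H) ∨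
      ((∃ n : ℕ, Nonempty (↥(S₀ : Subgroup G) ≃* DihedralGroup n)) ∨
        Cfsg.IsQuasiDihedral ↥(S₀ : Subgroup G)) by
    rcases h with h | ⟨n, ⟨e⟩⟩ | h
    · exact Or.inl h
    · exact Or.inr (Or.inl ⟨n, ⟨(S.equiv S₀).trans e⟩⟩)
    · exact Or.inr (Or.inr (isQuasiDihedral_congr (S₀.equiv S) h))
  have hp : IsPGroup 2 ↥(S₀ : Subgroup G) := S₀.isPGroup'
  set U := (S₀ : Subgroup G) ⊓ fixingSubgroup G D with hU
  have htU : t ∈ U := Subgroup.mem_inf.2 ⟨htS, mem_fixing.2 htD.ge⟩
  have h2 : ∀ k : ℕ, 2 ^ k ∣ D.ncard.factorial → 2 ^ k ≤ 2 := fun k => pow_two_le_two hD3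
  -- subgroups of the setwise stabilizer are at most twice their pointwise parts
  have hbound : ∀ {D' : Set Ω}, D'.ncard = D.ncard → ∀ K : Subgroup G, K ≤ (S₀ : Subgroup G) →
      K ≤ stabilizer G D' → Nat.card K ≤ Nat.card ↥(K ⊓ fixingSubgroup G D') * 2 := fun {D'} he K hK hK' =>
    card_le_of_meet (hp.to_le hK) hK' (by rw [he]; exact h2)
  have hbound2 : ∀ {D' : Set Ω}, D'.ncard = D.ncard → D' ≠ D → ∀ K : Subgroup G, K ≤ U →
      K ≤ stabilizer G D' → Nat.card K ≤ 2 := fun {D'} he hne K hK hK' => by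
    refine (hbound he K (hK.trans inf_le_left) hK').trans ?_
    have e : K ⊓ fixingSubgroup G D' = ⊥ := (Subgroup.eq_bot_iff_forall _).2 fun y hy =>
      eq_one_of_fix_two hfew he hne hp (Subgroup.mem_inf.1 (hK (Subgroup.mem_inf.1 hy).1)).1
        (Subgroup.mem_inf.1 (hK (Subgroup.mem_inf.1 hy).1)).2 (Subgroup.mem_inf.1 hy).2
    rw [e, Subgroup.card_bot]
  by_cases hSD : (S₀ : Subgroup G) ≤ stabilizer G D
  · by_cases hall : ∀ w ∈ (S₀ : Subgroup G), orderOf w = 2 → w ∈ fixingSubgroup G D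
    · left
      refine ⟨_, se_of_exact hD1 hD ⟨t, hSD htS, ht⟩ fun v hv hv2 => ?_⟩
      obtain ⟨g, hg, hgv⟩ := conj_into_sylow S₀ hSD hv (n := 1) (by rw [hv2, pow_one])
      have h1 := hall _ hgv (by rw [Invol.orderOf_conj_eq, hv2])
      rw [← mem_stabilizer_iff.1 hg, conj_mem_fixing] at h1
      exact (Set.eq_of_subset_of_ncard_le (mem_fixing.1 h1) (hfew v hv2) (Set.toFinite _)).symm
    right
    push Not at hall
    obtain ⟨w, hwS, hw2, hwD⟩ := hall
    have hrel : U.relIndex (S₀ : Subgroup G) = 2 := by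
      have h1 : Nat.card ↥(U.subgroupOf (S₀ : Subgroup G)) * U.relIndex (S₀ : Subgroup G) =
          Nat.card ↥(S₀ : Subgroup G) := Subgroup.card_mul_index _
      rw [Nat.card_congr (subgroupOfEquivOfLe (inf_le_left : U ≤ (S₀ : Subgroup G))).toEquiv] at h1
      have h3 := hbound rfl (S₀ : Subgroup G) le_rfl hSD
      rw [← h1] at h3
      have h4 : U.relIndex (S₀ : Subgroup G) ≤ 2 := Nat.le_of_mul_le_mul_left h3 Nat.card_pos
      have h5 : U.relIndex (S₀ : Subgroup G) ≠ 1 := fun e =>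
        hwD (Subgroup.mem_inf.1 (Subgroup.relIndex_eq_one.1 e hwS)).2
      have h6 : U.relIndex (S₀ : Subgroup G) ≠ 0 := fun e => by
        rw [e, mul_zero] at h1; exact Nat.card_pos.ne' h1.symm
      omega
    obtain ⟨M, hM, hM2, -⟩ | ⟨g, hg⟩ := S0111.result S₀ U inf_le_left hrel w hw2 hwS
      (fun h => hwD (Subgroup.mem_inf.1 h).2)
    · exact absurd hM2 (not_index_two hna hM)
    have hwg : fixedBy Ω w = g⁻¹ • D := by
      have h1 := fixed_eq hfew hp (Subgroup.mem_inf.1 hg).1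
        (fun e => Invol.ne_one_of_orderOf_two hw2 (conj_eq_one_iff.1 e)) (Subgroup.mem_inf.1 hg).2
      rw [fixedBy_conj] at h1
      rw [← h1, inv_smul_smul]
    have hne : fixedBy Ω w ≠ D := fun e => hwD (mem_fixing.2 e.ge)
    have he : (fixedBy Ω w).ncard = D.ncard := by rw [hwg, ncard_smul]
    have hCw : ∀ x ∈ centralizer ({w} : Set G), x ∈ stabilizer G (fixedBy Ω w) := fun x hx =>
      mem_stabilizer_iff.2 (smul_fixedBy_of_commute (mem_centralizer_singleton_iff.1 hx))
    set C := (S₀ : Subgroup G) ⊓ centralizer ({w} : Set G)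
    have hC : Nat.card C ≤ 4 := by
      refine (hbound rfl C inf_le_left (inf_le_left.trans hSD)).trans ?_
      have := hbound2 he hne (C ⊓ fixingSubgroup G D) (inf_le_inf_right _ inf_le_left)
        (fun x hx => hCw x (Subgroup.mem_inf.1 (Subgroup.mem_inf.1 hx).1).2)
      omega
    obtain ⟨z, hz, hz2, hzc⟩ := exists_central_inv hp
      (fun e => Invol.ne_one_of_orderOf_two ht (Subgroup.mem_bot.1 (e ▸ htS)))
    by_cases hzw : w = z
    · refine dihedral_of_cent_le hp hwS htS hw2 ht (fun e => hwD (e ▸ (Subgroup.mem_inf.1 htU).2)) ?_ hC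
      exact hzw ▸ hzc t htS
    · exact dihedral_of_cent_le hp hwS hz hw2 hz2 hzw (hzc w hwS).symm hC
  right
  obtain ⟨x, hxS, hxD, hxn⟩ := exists_moving hp hSD
  have hU' : ∀ y ∈ U, x * y * x⁻¹ ∈ (S₀ : Subgroup G) ⊓ stabilizer G D := fun y hy =>
    (hxn y).1 ((inf_le_inf_left (S₀ : Subgroup G) (fixing_le_stab D)) hy)
  have hUcard : Nat.card U ≤ 2 := by
    rw [← Subgroup.card_map_of_injective (K := U) (f := (MulAut.conj x).toMonoidHom) (MulAut.conj x).injective]
    have hle : U.map (MulAut.conj x).toMonoidHom ≤ (S₀ : Subgroup G) ⊓ stabilizer G D := by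
      rintro _ ⟨y, hy, rfl⟩; exact hU' y hy
    have e : U.map (MulAut.conj x).toMonoidHom ⊓ fixingSubgroup G D = ⊥ := by
      refine (Subgroup.eq_bot_iff_forall _).2 fun v hv => ?_
      obtain ⟨y, hy, rfl⟩ := (Subgroup.mem_inf.1 hv).1
      exact eq_one_of_fix_two hfew (ncard_smul x D) hxD hp (Subgroup.mem_inf.1 (hU' y hy)).1
        (Subgroup.mem_inf.1 hv).2 (conj_mem_fixing.2 (Subgroup.mem_inf.1 hy).2)
    refine (card_le_of_meet (hp.to_le (hle.trans inf_le_left)) (hle.trans inf_le_right) h2).trans ?_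
    rw [e, Subgroup.card_bot]
  have hUt : ∀ y ∈ U, y = 1 ∨ y = t := by
    classical
    intro y hy
    by_contra hcon
    push Not at hcon
    haveI := Fintype.ofFinite U
    rw [Nat.card_eq_fintype_card] at hUcard
    have h := (Finset.card_le_univ ({1, ⟨y, hy⟩, ⟨t, htU⟩} : Finset U)).trans hUcard
    rw [Finset.card_insert_of_notMem (by
        simp [Subtype.ext_iff]; exact ⟨Ne.symm hcon.1, (Invol.ne_one_of_orderOf_two ht).symm⟩),
      Finset.card_pair (by simpa [Subtype.ext_iff] using hcon.2)] at h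
    omega
  have hzR := hU' t htU
  refine dihedral_of_cent_le hp htS (Subgroup.mem_inf.1 hzR).1 ht (by rw [Invol.orderOf_conj_eq, ht])
    (fun e => hxD ?_) ?_ ?_
  · have h1 : fixedBy Ω (x * t * x⁻¹) = x • D := by rw [fixedBy_conj, htD]
    rw [← h1, ← e, htD]
  · set z := x * t * x⁻¹
    have h1 : z * t * z⁻¹ ∈ U := Subgroup.mem_inf.2
      ⟨mul_mem (mul_mem (Subgroup.mem_inf.1 hzR).1 htS) (inv_mem (Subgroup.mem_inf.1 hzR).1), by
        have := (conj_mem_fixing (g := z)).2 (Subgroup.mem_inf.1 htU).2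
        rwa [mem_stabilizer_iff.1 (Subgroup.mem_inf.1 hzR).2] at this⟩
    rcases hUt _ h1 with e | e
    · exact absurd (conj_eq_one_iff.1 e) (Invol.ne_one_of_orderOf_two ht)
    · exact mul_inv_eq_iff_eq_mul.1 e
  · refine (hbound rfl _ inf_le_left fun y hy => ?_).trans ?_
    · rw [mem_stabilizer_iff, ← htD]
      exact smul_fixedBy_of_commute (mem_centralizer_singleton_iff.1 (Subgroup.mem_inf.1 hy).2)
    · have : Nat.card ↥((S₀ : Subgroup G) ⊓ centralizer ({t} : Set G) ⊓ fixingSubgroup G D) ≤ Nat.card U :=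
        Subgroup.card_le_of_le (inf_le_inf_right _ inf_le_left)
      omega

end Cfsg.Agent.Fus.FixFour
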