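import Mathlib
import Cfsg.Agent.Lib.Invol.Sylow
import Cfsg.Agent.Lib.Invol.Closed
import Cfsg.Agent.Lib.Transfer.Burnside
import Cfsg.Agent.Lib.Transfer.MaxClass
import Cfsg.Agent.Lib.Grp.Frattini

/-!
# Fusion of an element with a centralizer of order nine in a Sylow 3-subgroup

If every conjugate in `P` of an element of order 3 has centralizer of order nine in `P`, then these
conjugates are conjugate in the normalizer of `P` modulo the derived group.
-/

set_option autoImplicit false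

namespace Cfsg.Agent.Fus.FixFour

open Subgroup
open scoped commutatorElement

universe u

/-- The structure of a 3-group with a centralizer of order nine. -/
theorem nine_struct {T : Type u} [Group T] [Finite T] (hT : IsPGroup 3 T) {x : T}
    (hx : orderOf x = 3) (h9 : Nat.card (centralizer ({x} : Set T)) = 9) (h27 : 27 ≤ Nat.card T) :
    (commutator T).index = 9 ∧ Nat.card (center T) = 3 ∧ center T ≤ commutator T ∧ x ∉ commutator T ∧
      (∀ y, x⁻¹ * y ∈ commutator T → ∃ t : T, t * x * t⁻¹ = y) ∧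
      (∀ e ∈ centralizer ({x} : Set T), e ∈ center T ∨ (∃ t : T, t * x * t⁻¹ = e) ∨ ∃ t : T, t * x * t⁻¹ = e⁻¹) := by
  haveI : Fact (Nat.Prime 3) := ⟨Nat.prime_three⟩
  haveI : Group.IsNilpotent T := hT.isNilpotent
  obtain ⟨n, hn⟩ := IsPGroup.iff_card.1 hT
  have hn3 : 3 ≤ n := by
    by_contra hc
    have := Nat.pow_le_pow_right (show 1 ≤ 3 by norm_num) (show n ≤ 2 by omega)
    norm_num at this
    omega
  obtain ⟨j, hj, -, hje⟩ := Transfer.MaxClass.commutator_index_ge hn (by omega)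
  set C := centralizer ({x} : Set T) with hC
  have hlift : ∀ t : T, x⁻¹ * (t * x * t⁻¹) ∈ commutator T := fun t => by
    have h : ⁅x⁻¹, t⁆ ∈ commutator T :=
      _root_.commutator_def T ▸ commutator_mem_commutator (mem_top _) (mem_top _)
    simpa [commutatorElement_def, mul_assoc] using h
  let f : T ⧸ C → ↥(commutator T) := Quotient.lift (fun t : T => (⟨_, hlift t⟩ : ↥(commutator T))) (by
    intro s t hst
    have hst' : s⁻¹ * t ∈ C := QuotientGroup.leftRel_apply.1 hst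
    have hc := mem_centralizer_singleton_iff.1 hst'
    refine Subtype.ext ?_
    show x⁻¹ * (s * x * s⁻¹) = x⁻¹ * (t * x * t⁻¹)
    congr 1
    calc s * x * s⁻¹ = s * (x * (s⁻¹ * t)) * t⁻¹ := by group
      _ = s * ((s⁻¹ * t) * x) * t⁻¹ := by rw [hc]
      _ = t * x * t⁻¹ := by group)
  have hf : Function.Injective f := by
    intro q r h
    induction q using Quotient.inductionOn with
    | _ s =>
    induction r using Quotient.inductionOn with
    | _ t =>
    apply Quotient.sound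
    refine QuotientGroup.leftRel_apply.2 (mem_centralizer_singleton_iff.2 ?_)
    have h1 : x⁻¹ * (s * x * s⁻¹) = x⁻¹ * (t * x * t⁻¹) := congrArg Subtype.val h
    have h2 := mul_left_cancel h1
    calc s⁻¹ * t * x = s⁻¹ * (t * x * t⁻¹) * t := by group
      _ = s⁻¹ * (s * x * s⁻¹) * t := by rw [h2]
      _ = x * (s⁻¹ * t) := by group
  have hle := Nat.card_le_card_of_injective f hf
  rw [← Subgroup.index_eq_card] at hle
  have h1 : Nat.card C * C.index = Nat.card T := C.card_mul_index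
  have h2 := (commutator T).card_mul_index
  rw [h9] at h1
  have hpos : 0 < Nat.card (commutator T) := Nat.card_pos
  have hidx : (commutator T).index = 9 := by
    rw [hje] at h2 ⊢
    have h3 : 9 ≤ 3 ^ j := le_trans (by norm_num) (Nat.pow_le_pow_right (show 1 ≤ 3 by norm_num) hj)
    nlinarith
  rw [hidx] at h2
  have hcardC : C.index = Nat.card (commutator T) := by omega
  have hsurj := (Function.Injective.bijective_of_nat_card_le hf (by
    rw [← Subgroup.index_eq_card, hcardC])).2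
  have hclass : ∀ y, x⁻¹ * y ∈ commutator T → ∃ t : T, t * x * t⁻¹ = y := by
    intro y hy
    obtain ⟨q, hq⟩ := hsurj ⟨_, hy⟩
    induction q using Quotient.inductionOn with
    | _ t => exact ⟨t, mul_left_cancel (congrArg Subtype.val hq : x⁻¹ * (t * x * t⁻¹) = x⁻¹ * y)⟩
  have hCne : C ≠ ⊤ := fun e => by rw [e, Subgroup.card_top] at h9; omega
  have hx' : x ∉ commutator T := fun h => by
    obtain ⟨t, ht⟩ := hclass 1 (by simpa using inv_mem h)
    rw [conj_eq_one_iff.1 ht, orderOf_one] at hx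
    omega
  have hxZ : x ∉ center T := fun h => hCne ((Subgroup.eq_top_iff' _).2 fun t =>
    mem_centralizer_singleton_iff.2 (Subgroup.mem_center_iff.1 h t))
  have hZC : center T ≤ C := fun z hz => mem_centralizer_singleton_iff.2 (Subgroup.mem_center_iff.1 hz x).symm
  have hxC : x ∈ C := mem_centralizer_singleton_iff.2 rfl
  haveI : Nontrivial T := Finite.one_lt_card_iff_nontrivial.1 (by omega)
  have hZ3 : Nat.card (center T) = 3 := by
    haveI := hT.center_nontrivial
    have hlt : Nat.card (center T) < 9 := h9 ▸ lt_of_le_of_ne (Subgroup.card_le_of_le hZC) fun e =>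
      hxZ ((Subgroup.eq_of_le_of_card_ge hZC e.ge).ge hxC)
    obtain ⟨i, hi⟩ := IsPGroup.iff_card.1 (hT.to_subgroup (center T))
    have h1' := Finite.one_lt_card (α := center T)
    rw [hi] at hlt h1' ⊢
    rcases i with _ | _ | i
    · norm_num at h1'
    · norm_num
    · have := Nat.pow_le_pow_right (show 1 ≤ 3 by norm_num) (show 2 ≤ i + 1 + 1 by omega)
      omega
  have hZD : center T ≤ commutator T := by
    haveI : (commutator T).Normal := by rw [_root_.commutator_def]; infer_instance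
    have hne : commutator T ≠ ⊥ := fun e => by
      rw [e, Subgroup.card_bot] at h2
      omega
    have h := Grp.inf_center_ne_bot (commutator T) hne
    have heq : commutator T ⊓ center T = center T := by
      refine Subgroup.eq_of_le_of_card_ge inf_le_right ?_
      have hd := Subgroup.card_dvd_of_le (inf_le_right : commutator T ⊓ center T ≤ center T)
      rw [hZ3] at hd ⊢
      rcases (Nat.dvd_prime Nat.prime_three).1 hd with e | e
      · exact absurd (Subgroup.card_eq_one.1 e) h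
      · exact e.ge
    exact heq ▸ inf_le_left
  refine ⟨hidx, hZ3, hZD, hx', hclass, fun e he => ?_⟩
  haveI : (center T).Normal := inferInstance
  have hsup : center T ⊔ zpowers x = C := by
    have hle' : center T ⊔ zpowers x ≤ C := sup_le hZC (zpowers_le.2 hxC)
    refine Subgroup.eq_of_le_of_card_ge hle' ?_
    rw [h9]
    obtain ⟨i, hi⟩ := IsPGroup.iff_card.1 (hT.to_subgroup (center T ⊔ zpowers x))
    have hlt : Nat.card (center T) < Nat.card ↥(center T ⊔ zpowers x) :=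
      lt_of_le_of_ne (Subgroup.card_le_of_le le_sup_left) fun e =>
        hxZ ((Subgroup.eq_of_le_of_card_ge le_sup_left e.ge).ge (le_sup_right (a := center T) (mem_zpowers x)))
    rw [hZ3, hi] at hlt
    rw [hi]
    have : 2 ≤ i := by
      by_contra hc
      have := Nat.pow_le_pow_right (show 1 ≤ 3 by norm_num) (show i ≤ 1 by omega)
      omega
    exact le_trans (by norm_num) (Nat.pow_le_pow_right (show 1 ≤ 3 by norm_num) this)
  rw [← hsup] at he
  obtain ⟨z, hz, w, hw, rfl⟩ := Subgroup.mem_sup_of_normal_left.1 he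
  obtain ⟨k, rfl⟩ := mem_zpowers_iff.1 hw
  have hzc := fun t => Subgroup.mem_center_iff.1 hz t
  have hk : x ^ k = x ^ (k % 3) := by
    have h := (zpow_mod_orderOf x k).symm
    rwa [hx] at h
  rw [hk]
  rcases (show k % 3 = 0 ∨ k % 3 = 1 ∨ k % 3 = 2 by omega) with e | e | e <;> rw [e]
  · left; rw [zpow_zero, mul_one]; exact hz
  · right; left
    refine hclass _ ?_
    rw [zpow_one, ← hzc x, inv_mul_cancel_left]
    exact hZD hz
  · right; right
    refine hclass _ ?_
    have hx2 : x ^ (2 : ℤ) = x⁻¹ := eq_inv_of_mul_eq_one_left (by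
      rw [show (2 : ℤ) = ((2 : ℕ) : ℤ) from rfl, zpow_natCast, ← pow_succ, show (2 : ℕ) + 1 = orderOf x from hx.symm]; exact pow_orderOf_eq_one x)
    rw [hx2, mul_inv_rev, inv_inv, inv_mul_cancel_left]
    exact inv_mem (hZD hz)

variable {G : Type u} [Group G] [Finite G]

/-- Every conjugate of `x` in `P` has centralizer of order nine in `P`. -/
def NineConj (P : Sylow 3 G) (x : ↥(P : Subgroup G)) : Prop :=
  ∀ c : ↥(P : Subgroup G), IsConj (x : G) c → Nat.card (centralizer ({c} : Set ↥(P : Subgroup G))) = 9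

theorem card_centralizer_map (P : Subgroup G) (h : G) (c : G) (Q : Subgroup G)
    (hQ : ∀ q ∈ Q, h * q * h⁻¹ ∈ P ∧ q * c = c * q) (hc : h * c * h⁻¹ ∈ P) :
    Nat.card Q ≤ Nat.card (centralizer ({⟨_, hc⟩} : Set ↥P)) := by
  refine Nat.card_le_card_of_injective (fun q => (⟨⟨h * (q : G) * h⁻¹, (hQ q q.2).1⟩,
    mem_centralizer_singleton_iff.2 (Subtype.ext ?_)⟩ : centralizer ({⟨_, hc⟩} : Set ↥P))) fun a b e => ?_
  · show h * (q : G) * h⁻¹ * (h * c * h⁻¹) = h * c * h⁻¹ * (h * (q : G) * h⁻¹)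
    calc h * (q : G) * h⁻¹ * (h * c * h⁻¹) = h * ((q : G) * c) * h⁻¹ := by group
      _ = h * (c * (q : G)) * h⁻¹ := by rw [(hQ q q.2).2]
      _ = _ := by group
  · exact Subtype.ext (by simpa using congrArg (fun z => ((z.1 : ↥P) : G)) e)

/-- An element carrying `x` to `c` can be chosen to carry the centralizer of `x` in `P` into that of `c`. -/
theorem exists_carry (P : Sylow 3 G) {x c : ↥(P : Subgroup G)} (hN : NineConj P x)
    (hxc : IsConj (x : G) c) : ∃ g : G, g * x * g⁻¹ = c ∧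
      ∀ e ∈ centralizer ({x} : Set ↥(P : Subgroup G)), ∃ e' ∈ centralizer ({c} : Set ↥(P : Subgroup G)),
        g * (e : G) * g⁻¹ = e' := by
  haveI : Fact (Nat.Prime 3) := ⟨Nat.prime_three⟩
  obtain ⟨g, hg⟩ := _root_.isConj_iff.1 hxc
  set C := centralizer ({(c : G)} : Set G)
  set Ec := (centralizer ({c} : Set ↥(P : Subgroup G))).map (P : Subgroup G).subtype with hEc
  set Ex := ((centralizer ({x} : Set ↥(P : Subgroup G))).map (P : Subgroup G).subtype).map
    (MulAut.conj g).toMonoidHom with hEx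
  have hEcC : Ec ≤ C := by
    rintro _ ⟨e, he, rfl⟩
    exact mem_centralizer_singleton_iff.2 (congrArg Subtype.val (mem_centralizer_singleton_iff.1 he))
  have hExC : Ex ≤ C := by
    rintro _ ⟨_, ⟨e, he, rfl⟩, rfl⟩
    refine mem_centralizer_singleton_iff.2 ?_
    show g * (e : G) * g⁻¹ * c = c * (g * e * g⁻¹)
    rw [← hg]
    have h : (e : G) * x = x * e := congrArg Subtype.val (mem_centralizer_singleton_iff.1 he)
    calc g * (e : G) * g⁻¹ * (g * x * g⁻¹) = g * ((e : G) * x) * g⁻¹ := by group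
      _ = g * (x * (e : G)) * g⁻¹ := by rw [h]
      _ = _ := by group
  have hEcP : IsPGroup 3 Ec := P.isPGroup'.to_le (Subgroup.map_subtype_le _)
  have hExP : IsPGroup 3 Ex := (P.isPGroup'.to_le (Subgroup.map_subtype_le _)).map _
  obtain ⟨Q, hQ⟩ := (hEcP.comap_subtype (K := C)).exists_le_sylow
  have hQle : ∀ q ∈ (Q : Subgroup C), (q : G) ∈ Ec := by
    set Q' := (Q : Subgroup C).map C.subtype with hQ'
    have hle : Ec ≤ Q' := fun e he => ⟨⟨e, hEcC he⟩, hQ he, rfl⟩
    obtain ⟨h, hh⟩ := Invol.exists_conj_subset_sylow (Q.isPGroup'.map C.subtype) P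
    have hcE : (c : G) ∈ Ec := ⟨c, mem_centralizer_singleton_iff.2 rfl, rfl⟩
    have hcc := hh _ (hle hcE)
    have h9 := card_centralizer_map (P : Subgroup G) h c Q'
      (fun q hq => ⟨hh q hq, by obtain ⟨q', -, rfl⟩ := hq; exact mem_centralizer_singleton_iff.1 q'.2⟩) hcc
    rw [hN ⟨_, hcc⟩ (_root_.isConj_iff.2 ⟨h * g, by show h * g * x * (h * g)⁻¹ = h * c * h⁻¹; rw [← hg]; group⟩)] at h9
    have e : Ec = Q' := Subgroup.eq_of_le_of_card_ge hle (by
      rw [hEc, Subgroup.card_map_of_injective (P : Subgroup G).subtype_injective, hN c hxc]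
      exact h9)
    exact fun q hq => e.ge ⟨q, hq, rfl⟩
  obtain ⟨k, hk⟩ := Invol.exists_conj_subset_sylow (hExP.comap_subtype (K := C)) Q
  refine ⟨(k : G) * g, ?_, fun e he => ?_⟩
  · have := mem_centralizer_singleton_iff.1 k.2
    calc (k : G) * g * x * ((k : G) * g)⁻¹ = (k : G) * (g * x * g⁻¹) * (k : G)⁻¹ := by group
      _ = c := by rw [hg, this]; group
  · have hm : g * (e : G) * g⁻¹ ∈ Ex := ⟨e, ⟨e, he, rfl⟩, rfl⟩
    obtain ⟨e', he', h⟩ := hQle _ (hk ⟨_, hExC hm⟩ hm)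
    refine ⟨e', he', ?_⟩
    calc (k : G) * g * (e : G) * ((k : G) * g)⁻¹ = (k : G) * (g * (e : G) * g⁻¹) * (k : G)⁻¹ := by group
      _ = (e' : G) := h.symm

/-- Conjugates in `P` are conjugate in the normalizer modulo the derived group. -/
theorem fusion_nine : ∀ (n : ℕ) {G : Type u} [Group G] [Finite G] (P : Sylow 3 G),
    Nat.card ↥(P : Subgroup G) = n → ∀ x : ↥(P : Subgroup G), orderOf x = 3 → NineConj P x →
      ∀ c : ↥(P : Subgroup G), IsConj (x : G) c →
        ∃ m ∈ Subgroup.normalizer ((P : Subgroup G) : Set G), ∃ h : m * x * m⁻¹ ∈ (P : Subgroup G),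
          c⁻¹ * ⟨_, h⟩ ∈ commutator ↥(P : Subgroup G) := by
  intro n
  induction n using Nat.strong_induction_on with
  | _ n ih =>
  intro G _ _ P hn x hx hN c hxc
  haveI : Fact (Nat.Prime 3) := ⟨Nat.prime_three⟩
  obtain ⟨i, hi⟩ := IsPGroup.iff_card.1 P.isPGroup'
  have h9 : 9 ≤ Nat.card ↥(P : Subgroup G) := (hN x (IsConj.refl _)) ▸ Subgroup.card_le_card_group _
  by_cases hi2 : i = 2
  · haveI : IsMulCommutative ↥(P : Subgroup G) :=
      IsPGroup.isMulCommutative_of_card_eq_prime_sq (p := 3) (by rw [hi, hi2])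
    obtain ⟨g, hg⟩ := _root_.isConj_iff.1 hxc
    obtain ⟨m, hm, e⟩ := Transfer.exists_normalizer_conj_of_abelian P inferInstance x.2
      (g := g) (hg ▸ c.2)
    rw [hg] at e
    refine ⟨m, hm, e ▸ c.2, ?_⟩
    rw [show (⟨m * x * m⁻¹, e ▸ c.2⟩ : ↥(P : Subgroup G)) = c from Subtype.ext e, inv_mul_cancel]
    exact one_mem _
  have h27 : 27 ≤ Nat.card ↥(P : Subgroup G) := by
    rw [hi] at h9 ⊢
    have : 3 ≤ i := by
      by_contra hc
      have := Nat.pow_le_pow_right (show 1 ≤ 3 by norm_num) (show i ≤ 1 by omega)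
      omega
    exact le_trans (by norm_num) (Nat.pow_le_pow_right (show 1 ≤ 3 by norm_num) this)
  obtain ⟨-, hZ3, -, -, -, -⟩ := nine_struct P.isPGroup' hx (hN x (IsConj.refl _)) h27
  have hnoZ : ∀ z ∈ center ↥(P : Subgroup G), ∀ t : G, t * (x : G) * t⁻¹ ≠ (z : G) := fun z hz t e => by
    have h := hN z (_root_.isConj_iff.2 ⟨t, e⟩)
    rw [(Subgroup.eq_top_iff' _).2 fun s => mem_centralizer_singleton_iff.2
      (Subgroup.mem_center_iff.1 hz s), Subgroup.card_top] at h
    change Nat.card ↥(P : Subgroup G) = 9 at h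
    omega
  obtain ⟨g, hg, hcarry⟩ := exists_carry P hN hxc
  set Zg := (center ↥(P : Subgroup G)).map (P : Subgroup G).subtype with hZg
  have hgN : g ∈ Subgroup.normalizer (Zg : Set G) := by
    refine Invol.mem_normalizer_of_map_eq ?_
    refine Subgroup.eq_of_le_of_card_ge ?_
      (Subgroup.card_map_of_injective (K := Zg) (f := (MulAut.conj g).toMonoidHom) (MulAut.conj g).injective).ge
    rintro _ ⟨_, ⟨z, hz, rfl⟩, rfl⟩
    obtain ⟨e', he', e⟩ := hcarry z (mem_centralizer_singleton_iff.2 (Subgroup.mem_center_iff.1 hz x).symm)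
    change g * (z : G) * g⁻¹ ∈ Zg
    rw [e]
    have hcord : orderOf c = 3 := by
      rw [← Subgroup.orderOf_coe, ← hg, Invol.orderOf_conj_eq, Subgroup.orderOf_coe, hx]
    obtain ⟨-, -, -, -, -, hcs⟩ := nine_struct P.isPGroup' hcord (hN c hxc) h27
    rcases hcs e' he' with h | ⟨t, ht⟩ | ⟨t, ht⟩
    · exact ⟨e', h, rfl⟩
    · exfalso
      refine hnoZ z hz (g⁻¹ * (t : G) * g) ?_
      have h1 : (t : G) * c * (t : G)⁻¹ = e' := congrArg Subtype.val ht
      calc g⁻¹ * (t : G) * g * x * (g⁻¹ * (t : G) * g)⁻¹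
          = g⁻¹ * ((t : G) * (g * x * g⁻¹) * (t : G)⁻¹) * g := by group
        _ = g⁻¹ * (g * (z : G) * g⁻¹) * g := by rw [hg, h1, e]
        _ = z := by group
    · exfalso
      refine hnoZ z⁻¹ (inv_mem hz) (g⁻¹ * (t : G) * g) ?_
      have h1 : (t : G) * c * (t : G)⁻¹ = (e' : G)⁻¹ := congrArg Subtype.val ht
      calc g⁻¹ * (t : G) * g * x * (g⁻¹ * (t : G) * g)⁻¹
          = g⁻¹ * ((t : G) * (g * x * g⁻¹) * (t : G)⁻¹) * g := by group
        _ = g⁻¹ * (g * (z : G) * g⁻¹)⁻¹ * g := by rw [hg, h1, e]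
        _ = (z : G)⁻¹ := by group
        _ = ((z⁻¹ : ↥(P : Subgroup G)) : G) := rfl
  set N := Subgroup.normalizer (Zg : Set G) with hNdef
  have hPN : (P : Subgroup G) ≤ N := fun p hp => by
    refine Subgroup.mem_normalizer_iff.2 fun y => ⟨?_, ?_⟩
    · rintro ⟨z, hz, rfl⟩
      refine ⟨z, hz, ?_⟩
      have h : p * (z : G) = z * p := congrArg Subtype.val (Subgroup.mem_center_iff.1 hz ⟨p, hp⟩)
      show (z : G) = p * z * p⁻¹
      rw [h, mul_inv_cancel_right]
    · rintro ⟨z, hz, e⟩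
      refine ⟨z, hz, ?_⟩
      have h : p * (z : G) = z * p := congrArg Subtype.val (Subgroup.mem_center_iff.1 hz ⟨p, hp⟩)
      have e' : (z : G) = p * y * p⁻¹ := e
      show (z : G) = y
      calc (z : G) = p⁻¹ * ((z : G) * p) := by rw [← h]; group
        _ = y := by rw [e']; group
  haveI hnorm : (Zg.subgroupOf N).Normal := Subgroup.normal_in_normalizer
  let π := QuotientGroup.mk' (Zg.subgroupOf N)
  let Pn : Sylow 3 N := P.subtype hPN
  let P' : Sylow 3 (↥N ⧸ Zg.subgroupOf N) := Pn.mapSurjective (QuotientGroup.mk'_surjective _)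
  let ψ : ↥(P : Subgroup G) →* ↥(P' : Subgroup (↥N ⧸ Zg.subgroupOf N)) :=
    MonoidHom.mk' (fun t => ⟨π ⟨t, hPN t.2⟩, ⟨⟨t, hPN t.2⟩, t.2, rfl⟩⟩) fun a b => Subtype.ext (map_mul π (⟨a, hPN a.2⟩ : ↥N) ⟨b, hPN b.2⟩)
  have hψs : Function.Surjective ψ := by
    rintro ⟨q, p, hp, rfl⟩
    exact ⟨⟨p, hp⟩, rfl⟩
  have hψk : ψ.ker = center ↥(P : Subgroup G) := by
    ext t
    rw [MonoidHom.mem_ker, Subtype.ext_iff]
    show π ⟨t, hPN t.2⟩ = 1 ↔ _
    rw [QuotientGroup.mk'_apply, QuotientGroup.eq_one_iff, mem_subgroupOf]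
    exact Subgroup.mem_map_iff_mem (P : Subgroup G).subtype_injective
  have hcard' : Nat.card ↥(P : Subgroup G) = 3 * Nat.card ↥(P' : Subgroup (↥N ⧸ Zg.subgroupOf N)) := by
    rw [← ψ.ker.card_mul_index, hψk, hZ3, ← hψk, Subgroup.index_ker, MonoidHom.range_eq_top.2 hψs,
      Subgroup.card_top]
  have hx' : orderOf (ψ x) = 3 := by
    refine orderOf_eq_prime (by have h := pow_orderOf_eq_one x; rw [hx] at h; rw [← map_pow, h, map_one]) fun e => ?_
    have h1 : x ∈ center ↥(P : Subgroup G) := hψk ▸ MonoidHom.mem_ker.2 e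
    exact hnoZ x h1 1 (by rw [one_mul, inv_one, mul_one])
  have hN' : NineConj P' (ψ x) := by
    intro c' hc'
    obtain ⟨q, hq⟩ := _root_.isConj_iff.1 hc'
    obtain ⟨h, rfl⟩ := QuotientGroup.mk'_surjective _ q
    obtain ⟨p, hp⟩ := hψs c'
    have he : π (h * ⟨x, hPN x.2⟩ * h⁻¹) = π ⟨p, hPN p.2⟩ := by
      rw [map_mul, map_mul, map_inv]
      exact hq.trans (congrArg Subtype.val hp.symm)
    obtain ⟨z, hz, hzz⟩ : ((⟨p, hPN p.2⟩ : N)⁻¹ * (h * ⟨x, hPN x.2⟩ * h⁻¹) : N) ∈ Zg.subgroupOf N :=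
      QuotientGroup.ker_mk' (Zg.subgroupOf N) ▸ (MonoidHom.eq_iff π).1 he
    have hzz' : (z : G) = (p : G)⁻¹ * ((h : G) * x * (h : G)⁻¹) := hzz
    set d : ↥(P : Subgroup G) := p * z with hd
    have hdc : IsConj (x : G) d := _root_.isConj_iff.2 ⟨h, by
      show (h : G) * x * (h : G)⁻¹ = (p : G) * z
      rw [hzz', mul_inv_cancel_left]⟩
    have hd' : ψ d = c' := by
      rw [hd, map_mul, MonoidHom.mem_ker.1 (hψk ▸ hz : z ∈ ψ.ker), mul_one, hp]
    rw [← hd']
    have hdord : orderOf d = 3 := by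
      obtain ⟨t, ht⟩ := _root_.isConj_iff.1 hdc
      rw [← Subgroup.orderOf_coe, ← ht, Invol.orderOf_conj_eq, Subgroup.orderOf_coe, hx]
    obtain ⟨-, -, hZD, -, hcl, -⟩ := nine_struct P.isPGroup' hdord (hN d hdc) h27
    set L := (centralizer ({ψ d} : Set _)).comap ψ with hL
    let η : ↥L →* ↥(center ↥(P : Subgroup G)) := MonoidHom.mk' (fun t => ⟨d⁻¹ * ((t : ↥(P : Subgroup G)) * d * (t : ↥(P : Subgroup G))⁻¹), by
        rw [← hψk, MonoidHom.mem_ker, map_mul, map_mul, map_mul, map_inv, map_inv,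
          mem_centralizer_singleton_iff.1 (Subgroup.mem_comap.1 t.2)]
        group⟩) fun s t => Subtype.ext (by
      show d⁻¹ * ((s * t : ↥(P : Subgroup G)) * d * (s * t : ↥(P : Subgroup G))⁻¹) =
        d⁻¹ * ((s : ↥(P : Subgroup G)) * d * (s : ↥(P : Subgroup G))⁻¹) * (d⁻¹ * ((t : ↥(P : Subgroup G)) * d * (t : ↥(P : Subgroup G))⁻¹))
      have hcz : d⁻¹ * ((t : ↥(P : Subgroup G)) * d * (t : ↥(P : Subgroup G))⁻¹) ∈ center ↥(P : Subgroup G) := by
        rw [← hψk, MonoidHom.mem_ker, map_mul, map_mul, map_mul, map_inv, map_inv,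
          mem_centralizer_singleton_iff.1 (Subgroup.mem_comap.1 t.2)]
        group
      set a := d⁻¹ * ((t : ↥(P : Subgroup G)) * d * (t : ↥(P : Subgroup G))⁻¹) with ha
      have h1 : (t : ↥(P : Subgroup G)) * d * (t : ↥(P : Subgroup G))⁻¹ = d * a := by rw [ha, mul_inv_cancel_left]
      calc d⁻¹ * ((s * t : ↥(P : Subgroup G)) * d * (s * t : ↥(P : Subgroup G))⁻¹)
          = d⁻¹ * ((s : ↥(P : Subgroup G)) * ((t : ↥(P : Subgroup G)) * d * (t : ↥(P : Subgroup G))⁻¹) * (s : ↥(P : Subgroup G))⁻¹) := by group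
        _ = d⁻¹ * (s : ↥(P : Subgroup G)) * d * (a * (s : ↥(P : Subgroup G))⁻¹) := by rw [h1]; group
        _ = d⁻¹ * (s : ↥(P : Subgroup G)) * d * ((s : ↥(P : Subgroup G))⁻¹ * a) := by rw [Subgroup.mem_center_iff.1 hcz (s : ↥(P : Subgroup G))⁻¹]
        _ = _ := by group)
    have hηk : Nat.card η.ker = 9 := by
      rw [← hN d hdc]
      refine Nat.card_congr
        { toFun := fun t => ⟨((t : ↥L) : ↥(P : Subgroup G)), mem_centralizer_singleton_iff.2 (by
            have h : d⁻¹ * (((t : ↥L) : ↥(P : Subgroup G)) * d * ((t : ↥L) : ↥(P : Subgroup G))⁻¹) = 1 := congrArg Subtype.val (MonoidHom.mem_ker.1 t.2)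
            rw [inv_mul_eq_one, eq_mul_inv_iff_mul_eq] at h
            exact h.symm)⟩
          invFun := fun t => ⟨⟨t, Subgroup.mem_comap.2 (mem_centralizer_singleton_iff.2 (by
            rw [← map_mul, mem_centralizer_singleton_iff.1 t.2, map_mul]))⟩, MonoidHom.mem_ker.2 (Subtype.ext (by
            show d⁻¹ * ((t : ↥(P : Subgroup G)) * d * (t : ↥(P : Subgroup G))⁻¹) = 1
            rw [mem_centralizer_singleton_iff.1 t.2]; group))⟩
          left_inv := fun t => rfl
          right_inv := fun t => rfl }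
    have hηs : Function.Surjective η := by
      rintro ⟨z, hz⟩
      obtain ⟨t, ht⟩ := hcl (d * z) (by rw [inv_mul_cancel_left]; exact hZD hz)
      refine ⟨⟨t, Subgroup.mem_comap.2 (mem_centralizer_singleton_iff.2 ?_)⟩, Subtype.ext ?_⟩
      · have h : ψ (t * d * t⁻¹) = ψ d := by
          rw [ht, map_mul, MonoidHom.mem_ker.1 (hψk ▸ hz : z ∈ ψ.ker), mul_one]
        rw [map_mul, map_mul, map_inv, mul_inv_eq_iff_eq_mul] at h
        exact h
      · show d⁻¹ * (t * d * t⁻¹) = z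
        rw [ht, inv_mul_cancel_left]
    have hcardL : Nat.card ↥L = 27 := by
      rw [← η.ker.card_mul_index, hηk, Subgroup.index_ker, MonoidHom.range_eq_top.2 hηs, Subgroup.card_top, hZ3]
    let χ : ↥L →* ↥(centralizer ({ψ d} : Set _)) := ψ.subgroupComap _
    have hχk : Nat.card χ.ker = 3 := by
      refine Eq.trans (Nat.card_congr (β := ↥(center ↥(P : Subgroup G)))
        { toFun := fun t => ⟨((t : ↥L) : ↥(P : Subgroup G)), hψk ▸ MonoidHom.mem_ker.2 (congrArg Subtype.val (MonoidHom.mem_ker.1 t.2))⟩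
          invFun := fun t => ⟨⟨t, Subgroup.mem_comap.2 (by
            rw [MonoidHom.mem_ker.1 (hψk.ge t.2)]; exact one_mem _)⟩,
            MonoidHom.mem_ker.2 (Subtype.ext (MonoidHom.mem_ker.1 (hψk.ge t.2)))⟩
          left_inv := fun t => rfl
          right_inv := fun t => rfl }) hZ3
    have hχs : Function.Surjective χ := by
      rintro ⟨q, hq⟩
      obtain ⟨t, rfl⟩ := hψs q
      exact ⟨⟨t, hq⟩, rfl⟩
    have h := χ.ker.card_mul_index
    rw [hχk, Subgroup.index_ker, MonoidHom.range_eq_top.2 hχs, Subgroup.card_top, hcardL] at h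
    omega
  have hconj' : IsConj (ψ x : ↥N ⧸ Zg.subgroupOf N) (ψ c) := by
    refine _root_.isConj_iff.2 ⟨π ⟨g, hgN⟩, ?_⟩
    show π ⟨g, hgN⟩ * π ⟨x, hPN x.2⟩ * (π ⟨g, hgN⟩)⁻¹ = π ⟨c, hPN c.2⟩
    rw [← map_mul, ← map_inv, ← map_mul]
    exact congrArg π (Subtype.ext hg)
  obtain ⟨m', hm', hmem', hcom'⟩ := ih _ (by rw [← hn]; change _ < Nat.card ↥(P : Subgroup G); omega) P' rfl (ψ x) hx' hN'
    (ψ c) hconj'
  obtain ⟨m, rfl⟩ := QuotientGroup.mk'_surjective _ m'
  have hmN : (m : G) ∈ Subgroup.normalizer ((P : Subgroup G) : Set G) := by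
    refine Invol.mem_normalizer_of_map_eq ?_
    refine Subgroup.eq_of_le_of_card_ge ?_
      (Subgroup.card_map_of_injective (K := (P : Subgroup G)) (f := (MulAut.conj (m : G)).toMonoidHom)
        (MulAut.conj (m : G)).injective).ge
    rintro _ ⟨p, hp, rfl⟩
    have h1 : π m * π ⟨p, hPN hp⟩ * (π m)⁻¹ ∈ (P' : Subgroup (↥N ⧸ Zg.subgroupOf N)) :=
      (Subgroup.mem_normalizer_iff.1 hm' _).1 ⟨⟨p, hPN hp⟩, hp, rfl⟩
    obtain ⟨p', hp', e⟩ := h1
    rw [← map_inv, ← map_mul, ← map_mul] at e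
    obtain ⟨z, hz, hzz⟩ : (p'⁻¹ * (m * ⟨p, hPN hp⟩ * m⁻¹) : N) ∈ Zg.subgroupOf N :=
      QuotientGroup.ker_mk' (Zg.subgroupOf N) ▸ (MonoidHom.eq_iff π).1 e.symm
    have hzz' : (z : G) = (p' : G)⁻¹ * ((m : G) * p * (m : G)⁻¹) := hzz
    show (m : G) * p * (m : G)⁻¹ ∈ (P : Subgroup G)
    have e2 : (m : G) * p * (m : G)⁻¹ = (p' : G) * z := by rw [hzz', mul_inv_cancel_left]
    rw [e2]
    exact mul_mem hp' z.2
  have hmem : (m : G) * x * (m : G)⁻¹ ∈ (P : Subgroup G) :=
    (Subgroup.mem_normalizer_iff.1 hmN _).1 x.2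
  refine ⟨m, hmN, hmem, ?_⟩
  have h2 : ψ (c⁻¹ * ⟨_, hmem⟩) ∈ (commutator ↥(P : Subgroup G)).map ψ := by
    rw [_root_.commutator_def, Subgroup.map_commutator, Subgroup.map_top_of_surjective ψ hψs, ← _root_.commutator_def]
    convert hcom' using 1
    rw [map_mul, map_inv]
    refine congrArg _ (Subtype.ext ?_)
    show π ⟨(m : G) * x * (m : G)⁻¹, _⟩ = π m * π ⟨x, hPN x.2⟩ * (π m)⁻¹
    rw [← map_inv, ← map_mul, ← map_mul]
    rfl
  have h3 := Subgroup.mem_comap.2 h2
  rw [Subgroup.comap_map_eq, hψk] at h3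
  obtain ⟨-, -, hZD, -, -, -⟩ := nine_struct P.isPGroup' hx (hN x (IsConj.refl _)) h27
  rwa [sup_eq_left.2 hZD] at h3

end Cfsg.Agent.Fus.FixFour
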