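import Mathlib
import Cfsg.Agent.Lib.Invol.Sylow

/-!
# A transfer criterion for an element of a Sylow 3-subgroup

A character of a Sylow 3-subgroup constant on the conjugates of an element and trivial on those of its
proper 3-power powers gives a nontrivial transfer.
-/

set_option autoImplicit false

namespace Cfsg.Agent.Fus.FixFour

open Subgroup MulAction

universe u

variable {G : Type u} [Group G] [Finite G]

theorem hom_trivial_of_simple [IsSimpleGroup G] (hna : ¬ IsMulCommutative G) {A : Type*} [CommGroup A]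
    (f : G →* A) (g : G) : f g = 1 := by
  rcases (MonoidHom.normal_ker f).eq_bot_or_eq_top with e | e
  · exact absurd ⟨⟨fun a b => ((MonoidHom.ker_eq_bot_iff f).1 e) (by rw [map_mul, map_mul, mul_comm])⟩⟩ hna
  · exact MonoidHom.mem_ker.1 (e ▸ mem_top g)

theorem exists_char_of_index_three {T : Type u} [Group T] (K : Subgroup T) [K.Normal] (hK : K.index = 3) :
    ∃ φ : T →* Multiplicative (ZMod 3), ∀ t, φ t = 1 ↔ t ∈ K := by
  haveI : Fact (Nat.Prime 3) := ⟨Nat.prime_three⟩
  have hc : Nat.card (T ⧸ K) = 3 := by rw [← Subgroup.index_eq_card, hK]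
  haveI : IsCyclic (T ⧸ K) := isCyclic_of_prime_card hc
  have e : Multiplicative (ZMod 3) ≃* (T ⧸ K) :=
    (MulEquiv.cast (M := fun n => Multiplicative (ZMod n)) hc.symm).trans (zmodCyclicMulEquiv inferInstance)
  refine ⟨e.symm.toMonoidHom.comp (QuotientGroup.mk' K), fun t => ?_⟩
  show e.symm (QuotientGroup.mk' K t) = 1 ↔ _
  rw [map_eq_one_iff _ e.symm.injective]
  exact QuotientGroup.eq_one_iff t

/-- The transfer criterion. -/
theorem transfer_contra [IsSimpleGroup G] (hna : ¬ IsMulCommutative G) (P : Sylow 3 G)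
    (φ : ↥(P : Subgroup G) →* Multiplicative (ZMod 3)) (y : G) (hy : y ∈ (P : Subgroup G))
    (hy1 : φ ⟨y, hy⟩ ≠ 1)
    (hconj : ∀ (g : G) (h : g⁻¹ * y * g ∈ (P : Subgroup G)), φ ⟨_, h⟩ = φ ⟨y, hy⟩)
    (hpow : ∀ (j : ℕ) (g : G) (h : g⁻¹ * y ^ (3 ^ (j + 1)) * g ∈ (P : Subgroup G)), φ ⟨_, h⟩ = 1) :
    False := by
  classical
  haveI : Fact (Nat.Prime 3) := ⟨Nat.prime_three⟩
  haveI : Fintype (G ⧸ (P : Subgroup G)) := Fintype.ofFinite _
  haveI : Fintype (Quotient (orbitRel (zpowers y) (G ⧸ (P : Subgroup G)))) := Fintype.ofFinite _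
  set m : Quotient (orbitRel (zpowers y) (G ⧸ (P : Subgroup G))) → ℕ :=
    fun q => Function.minimalPeriod (y • ·) q.out with hm
  obtain ⟨i, hi⟩ := (IsPGroup.iff_orderOf.1 P.isPGroup') ⟨y, hy⟩
  rw [Subgroup.orderOf_mk] at hi
  have hdvd : ∀ q, ∃ j, m q = 3 ^ j := fun q => by
    have h : m q ∣ 3 ^ i := by
      refine Function.IsPeriodicPt.minimalPeriod_dvd ?_
      show (fun x => y • x)^[3 ^ i] q.out = q.out
      rw [smul_iterate, ← hi, pow_orderOf_eq_one]
      exact one_smul G _
    obtain ⟨j, -, hj⟩ := (Nat.dvd_prime_pow Nat.prime_three).1 h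
    exact ⟨j, hj⟩
  set z := φ ⟨y, hy⟩
  have hz3 : z ^ 3 = 1 := by
    have h := pow_card_eq_one' (G := Multiplicative (ZMod 3)) (x := z)
    rwa [Nat.card_congr Multiplicative.toAdd, Nat.card_zmod] at h
  have hval : ∀ q, φ ⟨q.out.out⁻¹ * y ^ Function.minimalPeriod (y • ·) q.out * q.out.out,
      QuotientGroup.out_conj_pow_minimalPeriod_mem (P : Subgroup G) y q.out⟩ = z ^ m q := fun q => by
    obtain ⟨j, hj⟩ := hdvd q
    have hmem := QuotientGroup.out_conj_pow_minimalPeriod_mem (P : Subgroup G) y q.out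
    have hj' : Function.minimalPeriod (y • ·) q.out = 3 ^ j := hj
    cases j with
    | zero =>
      have hm1 : q.out.out⁻¹ * y * q.out.out ∈ (P : Subgroup G) := by
        have h := hmem
        rwa [hj', pow_zero, pow_one] at h
      rw [hj, pow_zero, pow_one]
      refine Eq.trans (congrArg φ (Subtype.ext ?_)) (hconj _ hm1)
      show q.out.out⁻¹ * y ^ Function.minimalPeriod (y • ·) q.out * q.out.out = _
      rw [hj', pow_zero, pow_one]
    | succ j =>
      have hm1 : q.out.out⁻¹ * y ^ (3 ^ (j + 1)) * q.out.out ∈ (P : Subgroup G) := by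
        have h := hmem
        rwa [hj'] at h
      have e1 : z ^ m q = 1 := by
        rw [hj, pow_succ', pow_mul, hz3, one_pow]
      rw [e1]
      refine Eq.trans (congrArg φ (Subtype.ext ?_)) (hpow j _ hm1)
      show q.out.out⁻¹ * y ^ Function.minimalPeriod (y • ·) q.out * q.out.out = _
      rw [hj']
  have htr : MonoidHom.transfer φ y = z ^ (P : Subgroup G).index := by
    rw [MonoidHom.transfer_eq_prod_quotient_orbitRel_zpowers_quot, Finset.prod_congr rfl fun q _ => hval q,
      Finset.prod_pow_eq_pow_sum]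
    congr 1
    have h : Nat.card (G ⧸ (P : Subgroup G)) = ∑ q, m q := by
      rw [Nat.card_congr (Subgroup.quotientEquivSigmaZMod (P : Subgroup G) y), Nat.card_sigma]
      simp only [Nat.card_zmod, hm]
    rw [Subgroup.index_eq_card, h]
  rw [hom_trivial_of_simple hna] at htr
  have hz : orderOf z = 3 := orderOf_eq_prime hz3 hy1
  have := orderOf_dvd_of_pow_eq_one htr.symm
  rw [hz] at this
  exact P.not_dvd_index this

end Cfsg.Agent.Fus.FixFour
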