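import Mathlib
import Cfsg.Agent.Lib.Fus.FixFour.ThreeFusion
import Cfsg.Agent.Lib.Fus.FixFour.ThreeTransfer

/-!
# No element of order three with small centralizer in a simple group with odd normalizer

If every conjugate of `x` in a Sylow 3-subgroup `P` has centralizer of order nine there and `N(P)` or
`N⟨x⟩` has odd order, transfer to a quotient of order three of `P` is nontrivial.
-/

set_option autoImplicit false

namespace Cfsg.Agent.Fus.FixFour

open Subgroup

universe u

variable {G : Type u} [Group G] [Finite G]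

/-- No element of a group of odd order inverts an element of order three. -/
theorem not_invert_of_odd {H : Subgroup G} (hH : Odd (Nat.card H)) {k x : G} (hk : k ∈ H)
    (hx : orderOf x = 3) : k * x * k⁻¹ ≠ x⁻¹ := by
  intro h
  have hit : ∀ j : ℕ, k ^ (2 * j) * x * (k ^ (2 * j))⁻¹ = x := by
    intro j
    induction j with
    | zero => simp
    | succ j ih =>
      calc k ^ (2 * (j + 1)) * x * (k ^ (2 * (j + 1)))⁻¹
          = k * (k * (k ^ (2 * j) * x * (k ^ (2 * j))⁻¹) * k⁻¹) * k⁻¹ := by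
            rw [show 2 * (j + 1) = 1 + 1 + 2 * j by omega, pow_add, pow_add, pow_one]; group
        _ = k * x⁻¹ * k⁻¹ := by rw [ih, h]
        _ = (k * x * k⁻¹)⁻¹ := by group
        _ = x := by rw [h, inv_inv]
  obtain ⟨j, hj⟩ := hH
  have h1 : k ^ (2 * j + 1) = 1 := by
    rw [← hj]
    exact congrArg Subtype.val (pow_card_eq_one' (G := H) (x := ⟨k, hk⟩))
  have h2 : x⁻¹ = x := by
    calc x⁻¹ = k * x * k⁻¹ := h.symm
      _ = k * (k ^ (2 * j) * x * (k ^ (2 * j))⁻¹) * k⁻¹ := by rw [hit]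
      _ = k ^ (2 * j + 1) * x * (k ^ (2 * j + 1))⁻¹ := by rw [pow_succ']; group
      _ = x := by rw [h1]; group
  have h3 : x ^ 2 = 1 := by
    nth_rewrite 1 [pow_two, ← h2]
    exact inv_mul_cancel x
  have := orderOf_dvd_of_pow_eq_one h3
  rw [hx] at this
  norm_num at this

theorem mem_of_pow_normalizer {p : ℕ} [Fact p.Prime] (P : Sylow p G) {m : G}
    (hm : m ∈ normalizer ((P : Subgroup G) : Set G)) {i : ℕ} (hi : m ^ (p ^ i) = 1) : m ∈ (P : Subgroup G) := by
  have hz : IsPGroup p ↥(zpowers m) := by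
    obtain ⟨j, -, hj⟩ := (Nat.dvd_prime_pow Fact.out).1 (orderOf_dvd_of_pow_eq_one hi)
    exact Invol.isPGroup_zpowers hj
  have hsup : IsPGroup p ↥(zpowers m ⊔ (P : Subgroup G)) :=
    hz.to_sup_of_normal_right' P.isPGroup' (zpowers_le.2 hm)
  rw [← P.3 hsup le_sup_right]
  exact le_sup_left (b := (P : Subgroup G)) (mem_zpowers m)

/-- The contradiction. -/
theorem nine_contra [IsSimpleGroup G] (hna : ¬ IsMulCommutative G) (P : Sylow 3 G)
    (x : ↥(P : Subgroup G)) (hx : orderOf x = 3) (hN : NineConj P x)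
    (h27 : 27 ≤ Nat.card ↥(P : Subgroup G))
    (hodd : Odd (Nat.card ↥(normalizer ((P : Subgroup G) : Set G))) ∨
      Odd (Nat.card ↥(normalizer ((zpowers (x : G)) : Set G)))) : False := by
  classical
  haveI : Fact (Nat.Prime 3) := ⟨Nat.prime_three⟩
  obtain ⟨hidx, -, -, hxD, -, -⟩ := nine_struct P.isPGroup' hx (hN x (IsConj.refl _)) h27
  have hord : ∀ c : ↥(P : Subgroup G), IsConj (x : G) c → orderOf c = 3 := fun c hc => by
    rw [← Subgroup.orderOf_coe, ← Invol.orderOf_eq_of_isConj hc, Subgroup.orderOf_coe, hx]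
  have hN' : ∀ c : ↥(P : Subgroup G), IsConj (x : G) c → Nat.card (centralizer ({c} : Set ↥(P : Subgroup G))) = 9 := hN
  let π : ↥(P : Subgroup G) →* Abelianization ↥(P : Subgroup G) := Abelianization.of
  have hπs : Function.Surjective π := QuotientGroup.mk'_surjective _
  have hπk : π.ker = commutator ↥(P : Subgroup G) := Abelianization.ker_of _
  have hV : Nat.card (Abelianization ↥(P : Subgroup G)) = 9 := by
    rw [← Subgroup.card_top, ← MonoidHom.range_eq_top.2 hπs, ← Subgroup.index_ker, hπk, hidx]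
  have hclass : ∀ c y : ↥(P : Subgroup G), IsConj (x : G) c → π c = π y → ∃ t, t * c * t⁻¹ = y := by
    intro c y hc e
    obtain ⟨-, -, -, -, hcl, -⟩ := nine_struct P.isPGroup' (hord c hc) (hN' c hc) h27
    refine hcl y ?_
    rw [← hπk, MonoidHom.mem_ker, map_mul, map_inv, e, inv_mul_cancel]
  -- conjugation by the normalizer
  have hmem : ∀ m ∈ normalizer ((P : Subgroup G) : Set G), ∀ c : ↥(P : Subgroup G),
      m * (c : G) * m⁻¹ ∈ (P : Subgroup G) := fun m hm c => (Subgroup.mem_normalizer_iff.1 hm _).1 c.2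
  let cm : ∀ m, m ∈ normalizer ((P : Subgroup G) : Set G) → (↥(P : Subgroup G) →* ↥(P : Subgroup G)) :=
    fun m hm => MonoidHom.mk' (fun c => ⟨m * (c : G) * m⁻¹, hmem m hm c⟩) fun a b => Subtype.ext (by
      show m * ((a : G) * b) * m⁻¹ = m * a * m⁻¹ * (m * b * m⁻¹)
      group)
  have hfus : ∀ c : ↥(P : Subgroup G), IsConj (x : G) c →
      ∃ m, ∃ hm : m ∈ normalizer ((P : Subgroup G) : Set G), π (cm m hm x) = π c := by
    intro c hc
    obtain ⟨m, hm, h, hd⟩ := fusion_nine _ P rfl x hx hN c hc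
    refine ⟨m, hm, ?_⟩
    rw [← hπk, MonoidHom.mem_ker, map_mul, map_inv, inv_mul_eq_one] at hd
    exact hd.symm
  -- the element is not conjugate to its inverse
  have hinv : ¬ IsConj (x : G) (x : G)⁻¹ := by
    intro h
    have h' : IsConj (x : G) ((x⁻¹ : ↥(P : Subgroup G)) : G) := h
    obtain ⟨m, hm, e⟩ := hfus x⁻¹ h'
    obtain ⟨t, ht⟩ := hclass x⁻¹ (cm m hm x) h' e.symm
    have h1 : (t : G)⁻¹ * m * x * ((t : G)⁻¹ * m)⁻¹ = (x : G)⁻¹ := by
      have h2 : (t : G) * (x : G)⁻¹ * (t : G)⁻¹ = m * x * m⁻¹ := congrArg Subtype.val ht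
      calc (t : G)⁻¹ * m * x * ((t : G)⁻¹ * m)⁻¹ = (t : G)⁻¹ * (m * x * m⁻¹) * t := by group
        _ = _ := by rw [← h2]; group
    have hxG : orderOf (x : G) = 3 := by rw [Subgroup.orderOf_coe, hx]
    rcases hodd with ho | ho
    · exact not_invert_of_odd ho (mul_mem (inv_mem (Subgroup.le_normalizer t.2)) hm) hxG h1
    · refine not_invert_of_odd ho ?_ hxG h1
      refine Invol.mem_normalizer_of_map_eq ?_
      rw [MonoidHom.map_zpowers]
      show zpowers ((t : G)⁻¹ * m * x * ((t : G)⁻¹ * m)⁻¹) = zpowers (x : G)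
      rw [h1, Subgroup.zpowers_inv]
  set O : Set (Abelianization ↥(P : Subgroup G)) := {v | ∃ c, IsConj (x : G) ((c : ↥(P : Subgroup G)) : G) ∧ π c = v}
    with hO
  have hx0 : π x ∈ O := ⟨x, IsConj.refl _, rfl⟩
  have hanti : ∀ v ∈ O, v⁻¹ ∉ O := by
    rintro v ⟨c, hc, rfl⟩ ⟨c', hc', e⟩
    refine hinv ?_
    obtain ⟨t, ht⟩ := hclass c' c⁻¹ hc' (e.trans (map_inv π c).symm)
    have h1 : IsConj (x : G) (c : G)⁻¹ := hc'.trans (_root_.isConj_iff.2 ⟨t, congrArg Subtype.val ht⟩)
    obtain ⟨g, hg⟩ := _root_.isConj_iff.1 h1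
    have h2 : IsConj (x : G)⁻¹ (c : G) := _root_.isConj_iff.2 ⟨g, by rw [← inv_inv (c : G), ← hg]; group⟩
    exact hc.trans h2.symm
  have h1O : ∀ v ∈ O, v ≠ 1 := fun v hv e => hanti v hv (by rwa [e, inv_one, ← e])
  have hbound : ∀ s : Finset (Abelianization ↥(P : Subgroup G)), (∀ v ∈ s, v ∈ O) →
      ∀ F : Finset (Abelianization ↥(P : Subgroup G)), (∀ v ∈ F, v ∉ O ∧ v⁻¹ ∉ O) →
        2 * s.card + F.card ≤ 9 := by
    intro s hs F hF
    haveI := Fintype.ofFinite (Abelianization ↥(P : Subgroup G))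
    have h := Finset.card_le_univ ((s ∪ s.image (·⁻¹)) ∪ F)
    rw [← Nat.card_eq_fintype_card, hV, Finset.card_union_of_disjoint, Finset.card_union_of_disjoint,
      Finset.card_image_of_injective _ inv_injective] at h
    · omega
    · rw [Finset.disjoint_left]
      intro v hv hv'
      obtain ⟨w, hw, rfl⟩ := Finset.mem_image.1 hv'
      exact hanti w (hs w hw) (hs _ hv)
    · rw [Finset.disjoint_left]
      intro v hv hv'
      rcases Finset.mem_union.1 hv with h' | h'
      · exact (hF v hv').1 (hs v h')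
      · obtain ⟨w, hw, rfl⟩ := Finset.mem_image.1 h'
        exact (hF _ hv').2 (by rw [inv_inv]; exact hs w hw)
  have hfour : ∀ s : Finset (Abelianization ↥(P : Subgroup G)), (∀ v ∈ s, v ∈ O) → s.card ≤ 4 := by
    intro s hs
    have := hbound s hs {1} (fun v hv => by
      rw [Finset.mem_singleton.1 hv, inv_one]
      exact ⟨fun h => h1O 1 h rfl, fun h => h1O 1 h rfl⟩)
    rw [Finset.card_singleton] at this
    omega
  have hmove : ∀ m (hm : m ∈ normalizer ((P : Subgroup G) : Set G)) v, v ∈ O →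
      Abelianization.map (cm m hm) v ∈ O := by
    rintro m hm _ ⟨c, hc, rfl⟩
    exact ⟨cm m hm c, hc.trans (_root_.isConj_iff.2 ⟨m, rfl⟩), (Abelianization.map_of (cm m hm) c).symm⟩
  -- at most two images
  obtain ⟨w, hw, hall⟩ : ∃ w ∈ O, ∀ v ∈ O, v = π x ∨ v = w := by
    by_cases hP : Odd (Nat.card ↥(normalizer ((P : Subgroup G) : Set G)))
    · refine ⟨π x, hx0, ?_⟩
      rintro _ ⟨c, hc, rfl⟩
      left
      obtain ⟨m, hm, e⟩ := hfus c hc
      rw [← e]
      let σ := Abelianization.map (cm m hm)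
      have hσ : ∀ (i : ℕ) (d : ↥(P : Subgroup G)) (hd : m ^ i * (d : G) * (m ^ i)⁻¹ ∈ (P : Subgroup G)),
          σ^[i] (π d) = π ⟨_, hd⟩ := by
        intro i
        induction i with
        | zero => intro d hd; exact congrArg π (Subtype.ext (by simp))
        | succ i ih =>
          intro d hd
          have hd' := hmem _ (pow_mem hm i) d
          rw [Function.iterate_succ', Function.comp_apply, ih d hd']
          refine (Abelianization.map_of (cm m hm) _).trans (congrArg π (Subtype.ext ?_))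
          show m * (m ^ i * (d : G) * (m ^ i)⁻¹) * m⁻¹ = m ^ (i + 1) * (d : G) * (m ^ (i + 1))⁻¹
          rw [pow_succ']; group
      set r := orderOf m with hr
      have hrodd : Odd r := by
        refine hP.of_dvd_nat ?_
        rw [hr]
        exact Subgroup.orderOf_dvd_natCard _ hm
      obtain ⟨a, s, hs3, hrs⟩ := Nat.exists_eq_pow_mul_and_not_dvd (orderOf_pos m).ne' 3 (by norm_num)
      have hms : m ^ s ∈ (P : Subgroup G) :=
        mem_of_pow_normalizer P (pow_mem hm s) (i := a) (by rw [← pow_mul, mul_comm, ← hrs]; exact pow_orderOf_eq_one m)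
      have hper : Function.IsPeriodicPt σ s (π x) := by
        show σ^[s] (π x) = π x
        rw [hσ s x (hmem _ (pow_mem hm s) x)]
        refine Eq.trans (congrArg π (Subtype.ext (a2 := (⟨_, hms⟩ : ↥(P : Subgroup G)) * x * ⟨_, hms⟩⁻¹) rfl)) ?_
        rw [map_mul, map_mul, map_inv, mul_inv_cancel_comm]
      set d := Function.minimalPeriod σ (π x) with hd
      have hdd : d ∣ s := hper.minimalPeriod_dvd
      have hit : ∀ i, σ^[i] (π x) ∈ O := fun i => by
        induction i with
        | zero => exact hx0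
        | succ i ih => rw [Function.iterate_succ', Function.comp_apply]; exact hmove m hm _ ih
      have hd4 : d ≤ 4 := by
        have hinj : Set.InjOn (fun i => σ^[i] (π x)) (Set.Iio d) := Function.iterate_injOn_Iio_minimalPeriod
        have hs4 := hfour ((Finset.range d).image (fun i => σ^[i] (π x))) (by
          intro v hv
          obtain ⟨i, -, rfl⟩ := Finset.mem_image.1 hv
          exact hit i)
        rwa [Finset.card_image_of_injOn (by rwa [Finset.coe_range]), Finset.card_range] at hs4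
      have hdodd : Odd d := hrodd.of_dvd_nat (hdd.trans (hr ▸ hrs ▸ dvd_mul_left s _))
      have hd3 : d ≠ 3 := fun e => hs3 (e ▸ hdd)
      have hd1 : d = 1 := by
        obtain ⟨q, hq⟩ := hdodd
        omega
      have hfix : σ (π x) = π x := Function.minimalPeriod_eq_one_iff_isFixedPt.1 (hd ▸ hd1)
      exact (Abelianization.map_of (cm m hm) x).symm.trans hfix
    have ho := hodd.resolve_left hP
    obtain ⟨n, hn, hn2⟩ := Invol.exists_orderOf_two_mem (Nat.not_odd_iff_even.1 hP)
    let σ := Abelianization.map (cm n hn)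
    have hnn : n * n = 1 := Invol.mul_self_of_orderOf_two hn2
    have hσσ : ∀ v, σ (σ v) = v := by
      intro v
      obtain ⟨c, rfl⟩ := hπs v
      show Abelianization.map (cm n hn) (Abelianization.map (cm n hn) (Abelianization.of c)) = Abelianization.of c
      rw [Abelianization.map_of, Abelianization.map_of]
      refine congrArg _ (Subtype.ext ?_)
      show n * (n * (c : G) * n⁻¹) * n⁻¹ = c
      calc n * (n * (c : G) * n⁻¹) * n⁻¹ = (n * n) * c * (n * n)⁻¹ := by group
        _ = c := by rw [hnn]; group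
    have hfpf : ∀ v ∈ O, σ v ≠ v := by
      rintro _ ⟨c, hc, rfl⟩ e
      obtain ⟨t, ht⟩ := hclass c (cm n hn c) hc
        (e.symm.trans (Abelianization.map_of (cm n hn) c))
      set k := (t : G)⁻¹ * n with hk
      have hkc : k * c * k⁻¹ = c := by
        have h1 : (t : G) * c * (t : G)⁻¹ = n * c * n⁻¹ := congrArg Subtype.val ht
        calc k * c * k⁻¹ = (t : G)⁻¹ * (n * c * n⁻¹) * t := by rw [hk]; group
          _ = c := by rw [← h1]; group
      obtain ⟨g, hg⟩ := _root_.isConj_iff.1 hc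
      have hkN : g⁻¹ * k * g ∈ normalizer ((zpowers (x : G)) : Set G) := by
        refine Invol.mem_normalizer_of_map_eq ?_
        rw [MonoidHom.map_zpowers]
        show zpowers (g⁻¹ * k * g * x * (g⁻¹ * k * g)⁻¹) = zpowers (x : G)
        congr 1
        calc g⁻¹ * k * g * x * (g⁻¹ * k * g)⁻¹ = g⁻¹ * (k * (g * x * g⁻¹) * k⁻¹) * g := by group
          _ = x := by rw [hg, hkc, ← hg]; group
      obtain ⟨j, hj⟩ := ho
      have hkr : k ^ (2 * j + 1) = 1 := by
        have h2 : (g⁻¹ * k * g) ^ (2 * j + 1) = 1 := by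
          rw [← hj]
          exact congrArg Subtype.val (pow_card_eq_one' (G := ↥(normalizer ((zpowers (x : G)) : Set G))) (x := ⟨_, hkN⟩))
        have h3 : (g⁻¹ * k * g) ^ (2 * j + 1) = g⁻¹ * k ^ (2 * j + 1) * g := by
          have h := conj_pow (i := 2 * j + 1) (a := g⁻¹) (b := k)
          rwa [inv_inv] at h
        rw [h3] at h2
        calc k ^ (2 * j + 1) = g * (g⁻¹ * k ^ (2 * j + 1) * g) * g⁻¹ := by group
          _ = 1 := by rw [h2]; group
      have hnP : n ∈ (P : Subgroup G) := by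
        set N := normalizer ((P : Subgroup G) : Set G)
        haveI : ((P : Subgroup G).subgroupOf N).Normal := Subgroup.normal_in_normalizer
        let q := QuotientGroup.mk' ((P : Subgroup G).subgroupOf N)
        have htN : (t : G) ∈ N := Subgroup.le_normalizer t.2
        have h1 : q ⟨n, hn⟩ = q ⟨k, mul_mem (inv_mem htN) hn⟩ := by
          have ht1 : q ⟨(t : G)⁻¹, inv_mem htN⟩ = 1 :=
            (QuotientGroup.eq_one_iff _).2 (mem_subgroupOf.2 (inv_mem t.2))
          rw [show (⟨k, mul_mem (inv_mem htN) hn⟩ : ↥N) = ⟨(t : G)⁻¹, inv_mem htN⟩ * ⟨n, hn⟩ from rfl, map_mul,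
            ht1, one_mul]
        have h2 : q ⟨n, hn⟩ ^ (2 * j + 1) = 1 := by
          rw [h1, ← map_pow, show (⟨k, mul_mem (inv_mem htN) hn⟩ : ↥N) ^ (2 * j + 1) = 1 from Subtype.ext hkr, map_one]
        have h3 : q ⟨n, hn⟩ ^ 2 = 1 := by
          rw [← map_pow, show (⟨n, hn⟩ : ↥N) ^ 2 = 1 from Subtype.ext ((pow_two n).trans hnn), map_one]
        have h4 : q ⟨n, hn⟩ = 1 := by
          rw [pow_succ, pow_mul, h3, one_pow, one_mul] at h2
          exact h2
        exact mem_subgroupOf.1 ((QuotientGroup.eq_one_iff _).1 h4)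
      obtain ⟨i, hi⟩ := (IsPGroup.iff_orderOf.1 P.isPGroup') ⟨n, hnP⟩
      rw [Subgroup.orderOf_mk, hn2] at hi
      cases i with
      | zero => norm_num at hi
      | succ i => rw [pow_succ] at hi; omega
    refine ⟨σ (π x), hmove n hn _ hx0, fun z hz => ?_⟩
    by_contra hcon
    push Not at hcon
    set X := π x * σ (π x) with hX
    have hXfix : σ X = X := by rw [hX, map_mul, hσσ, mul_comm]
    have hX1 : X ≠ 1 := fun e => hanti _ hx0 (by
      rw [← eq_inv_of_mul_eq_one_right e]; exact hmove n hn _ hx0)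
    have hXO : X ∉ O := fun h => hfpf X h hXfix
    have hXO' : X⁻¹ ∉ O := fun h => hfpf _ h (by rw [map_inv, hXfix])
    have hz' : σ z ≠ π x := fun e => hcon.2 (by rw [← e, hσσ])
    have hz'' : σ z ≠ σ (π x) := fun e => hcon.1 (by rw [← hσσ z, e, hσσ])
    have h4 : ({π x, σ (π x), z, σ z} : Finset (Abelianization ↥(P : Subgroup G))).card = 4 := by
      rw [Finset.card_insert_of_notMem, Finset.card_insert_of_notMem, Finset.card_pair (hfpf z hz).symm]
      · simp only [Finset.mem_insert, Finset.mem_singleton, not_or]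
        exact ⟨Ne.symm hcon.2, hz''.symm⟩
      · simp only [Finset.mem_insert, Finset.mem_singleton, not_or]
        exact ⟨(hfpf _ hx0).symm, Ne.symm hcon.1, hz'.symm⟩
    have h := hbound {π x, σ (π x), z, σ z} (by
      simp only [Finset.mem_insert, Finset.mem_singleton]
      rintro v (rfl | rfl | rfl | rfl)
      exacts [hx0, hmove n hn _ hx0, hz, hmove n hn _ hz]) {1, X} (by
      simp only [Finset.mem_insert, Finset.mem_singleton]
      rintro v (rfl | rfl)
      · rw [inv_one]; exact ⟨fun h => h1O 1 h rfl, fun h => h1O 1 h rfl⟩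
      · exact ⟨hXO, hXO'⟩)
    rw [h4, Finset.card_pair (Ne.symm hX1)] at h
    omega
  -- a subgroup of index three
  have hexp : ∀ v : Abelianization ↥(P : Subgroup G), v ^ 3 = 1 := by
    haveI hnc : ¬ IsCyclic (Abelianization ↥(P : Subgroup G)) := fun hc => by
      haveI : IsCyclic (↥(P : Subgroup G) ⧸ commutator ↥(P : Subgroup G)) := hc
      haveI := Transfer.MaxClass.isCyclic_of_abelianization P.isPGroup'
      let := IsCyclic.commGroup (α := ↥(P : Subgroup G))
      have h := hN x (IsConj.refl _)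
      rw [(Subgroup.eq_top_iff' _).2 fun s => mem_centralizer_singleton_iff.2 (mul_comm s x), Subgroup.card_top] at h
      omega
    intro v
    have hdvd : orderOf v ∣ 3 ^ 2 := (orderOf_dvd_natCard v).trans (by rw [hV]; norm_num)
    obtain ⟨i, hi, hiv⟩ := (Nat.dvd_prime_pow Nat.prime_three).1 hdvd
    rcases (show i ≤ 1 ∨ i = 2 by omega) with hi' | rfl
    · exact orderOf_dvd_iff_pow_eq_one.1 (hiv ▸ pow_dvd_pow 3 hi' |>.trans (pow_one 3).dvd)
    · exact absurd (isCyclic_of_orderOf_eq_card v (by rw [hiv, hV]; norm_num)) hnc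
  have hcard3 : ∀ v : Abelianization ↥(P : Subgroup G), v ≠ 1 → Nat.card (zpowers v) = 3 := fun v hv => by
    rw [Nat.card_zpowers]; exact orderOf_eq_prime (hexp v) hv
  have hx1 : π x ≠ 1 := h1O _ hx0
  obtain ⟨e, he1, hxe, hwe⟩ : ∃ e, e ≠ 1 ∧ π x ∉ zpowers e ∧ (π x)⁻¹ * w ∈ zpowers e := by
    by_cases hw0 : w = π x
    · obtain ⟨e, he⟩ : ∃ e, e ∉ zpowers (π x) := by
        by_contra hcon
        push Not at hcon
        have h := Nat.card_le_card_of_injective (fun v => (⟨v, hcon v⟩ : zpowers (π x)))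
          (fun a b h => congrArg Subtype.val h)
        rw [hV, hcard3 _ hx1] at h
        omega
      refine ⟨e, fun h => he (h ▸ one_mem _), fun h => he ?_, by rw [hw0, inv_mul_cancel]; exact one_mem _⟩
      exact (Subgroup.eq_of_le_of_card_ge (zpowers_le.2 h)
        (by rw [hcard3 _ hx1, hcard3 e fun h' => he (h' ▸ one_mem _)])).ge (mem_zpowers e)
    · refine ⟨(π x)⁻¹ * w, fun h => hw0 (inv_mul_eq_one.1 h).symm, fun h => ?_, mem_zpowers _⟩
      have hwm : w ∈ zpowers ((π x)⁻¹ * w) := by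
        simpa using mul_mem h (mem_zpowers ((π x)⁻¹ * w))
      have heq : zpowers ((π x)⁻¹ * w) = zpowers (π x) := (Subgroup.eq_of_le_of_card_ge (zpowers_le.2 h)
        (by rw [hcard3 _ hx1, hcard3 _ fun h' => hw0 (inv_mul_eq_one.1 h').symm])).symm
      rw [heq] at hwm
      obtain ⟨k, hk⟩ := mem_zpowers_iff.1 hwm
      have hk3 : π x ^ k = π x ^ (k % 3) := by
        conv_lhs => rw [← Int.emod_add_mul_ediv k 3]
        rw [zpow_add, zpow_mul, show (π x) ^ (3 : ℤ) = 1 by
          rw [show (3 : ℤ) = ((3 : ℕ) : ℤ) from rfl, zpow_natCast, hexp], one_zpow, mul_one]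
      rw [hk3] at hk
      rcases (show k % 3 = 0 ∨ k % 3 = 1 ∨ k % 3 = 2 by omega) with e | e | e <;> rw [e] at hk
      · exact h1O w hw (by rw [← hk, zpow_zero])
      · exact hw0 (by rw [← hk, zpow_one])
      · refine hanti _ hx0 ?_
        have h2 : (π x) ^ (2 : ℤ) = (π x)⁻¹ := eq_inv_of_mul_eq_one_left (by
          rw [show (2 : ℤ) = ((2 : ℕ) : ℤ) from rfl, zpow_natCast, ← pow_succ]; exact hexp _)
        rw [← h2, hk]
        exact hw
  set K := (zpowers e).comap π with hK
  haveI : K.Normal := Subgroup.Normal.comap inferInstance π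
  have hK3 : K.index = 3 := by
    rw [hK, Subgroup.index_comap_of_surjective _ hπs]
    have h := (zpowers e).card_mul_index
    rw [hcard3 e he1, hV] at h
    omega
  obtain ⟨φ, hφ⟩ := exists_char_of_index_three K hK3
  refine transfer_contra hna P φ (x : G) x.2 (fun h => hxe ((hφ x).1 h)) (fun g hg => ?_) (fun j g hg => ?_)
  · have hc : IsConj (x : G) (g⁻¹ * x * g) := _root_.isConj_iff.2 ⟨g⁻¹, by rw [inv_inv]⟩
    have hmemK : x⁻¹ * ⟨_, hg⟩ ∈ K := by
      rw [hK, Subgroup.mem_comap, map_mul, map_inv]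
      rcases hall _ ⟨⟨_, hg⟩, hc, rfl⟩ with e' | e' <;> rw [e']
      · rw [inv_mul_cancel]; exact one_mem _
      · exact hwe
    have h := (hφ _).2 hmemK
    rw [map_mul, map_inv, inv_mul_eq_one] at h
    exact h.symm
  · have hz : (x : G) ^ (3 ^ (j + 1)) = 1 := by
      have h3 : (x : G) ^ 3 = 1 := by
        have h := pow_orderOf_eq_one (x : G)
        rwa [Subgroup.orderOf_coe, hx] at h
      rw [pow_succ', pow_mul, h3, one_pow]
    refine Eq.trans (congrArg φ (Subtype.ext (a2 := (1 : ↥(P : Subgroup G))) ?_)) (map_one φ)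
    show g⁻¹ * (x : G) ^ (3 ^ (j + 1)) * g = 1
    rw [hz, mul_one, inv_mul_cancel]

end Cfsg.Agent.Fus.FixFour
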