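import Mathlib
import Cfsg.Agent.Lib.Fus.FixFour.Basic
import Cfsg.Agent.Lib.Fus.FixFour.ThreeNine

/-!
# Odd point stabilizers of order divisible by three

In a simple transitive group with odd point stabilizers and elements fixing at most four points, either
some proper subgroup contains no element of order three in common with a different conjugate, or the
Sylow 3-subgroups are elementary abelian of order nine.
-/

set_option autoImplicit false

namespace Cfsg.Agent.Fus.FixFour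

open Subgroup MulAction
open scoped Pointwise

universe u v

variable {G : Type u} [Group G] [Finite G]

/-- `3`-elements of `H` lie in no other conjugate. -/
def ThreeEmbedded (G : Type u) [Group G] : Prop :=
  ∃ H : Subgroup G, H ≠ ⊤ ∧ 3 ∣ Nat.card H ∧
    ∀ g : G, g ∉ H → ¬ 3 ∣ Nat.card ↥(H ⊓ H.map (MulAut.conj g).toMonoidHom)

theorem embedded_of {H : Subgroup G} (hH : H ≠ ⊤) (h3 : 3 ∣ Nat.card H)
    (h : ∀ v ∈ H, orderOf v = 3 → ∀ g : G, g⁻¹ * v * g ∈ H → g ∈ H) : ThreeEmbedded G := by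
  haveI : Fact (Nat.Prime 3) := ⟨Nat.prime_three⟩
  refine ⟨H, hH, h3, fun g hg hd => ?_⟩
  obtain ⟨⟨v, hv⟩, hv3⟩ := exists_prime_orderOf_dvd_card' 3 hd
  rw [Subgroup.orderOf_mk] at hv3
  exact hg (h v (Subgroup.mem_inf.1 hv).1 hv3 g (mem_map_conj_iff.1 (Subgroup.mem_inf.1 hv).2))

theorem embedded_of_cyclic [IsSimpleGroup G] (hna : ¬ IsMulCommutative G) (P : Sylow 3 G)
    (hc : IsCyclic ↥(P : Subgroup G)) (hne : 3 ∣ Nat.card ↥(P : Subgroup G)) : ThreeEmbedded G := by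
  classical
  haveI : Fact (Nat.Prime 3) := ⟨Nat.prime_three⟩
  obtain ⟨⟨z, hzP⟩, hz⟩ := exists_prime_orderOf_dvd_card' 3 hne
  rw [Subgroup.orderOf_mk] at hz
  have huniq : ∀ v ∈ (P : Subgroup G), orderOf v = 3 → zpowers v = zpowers z := by
    intro v hv hv3
    refine Subgroup.eq_of_le_of_card_ge (zpowers_le.2 ?_) (by rw [Nat.card_zpowers, Nat.card_zpowers, hv3, hz])
    haveI := Fintype.ofFinite ↥(P : Subgroup G)
    by_contra hvn
    have hle := IsCyclic.card_pow_eq_one_le (α := ↥(P : Subgroup G)) (show 0 < 3 by norm_num)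
    have h4 : ({1, ⟨z, hzP⟩, ⟨z, hzP⟩⁻¹, ⟨v, hv⟩} : Finset ↥(P : Subgroup G)).card = 4 := by
      have n1 : z ≠ 1 := fun e => by rw [e, orderOf_one] at hz; omega
      have n2 : z ≠ z⁻¹ := fun e => by
        have := orderOf_dvd_of_pow_eq_one (show z ^ 2 = 1 by rw [pow_two]; nth_rewrite 2 [e]; exact mul_inv_cancel z)
        rw [hz] at this
        norm_num at this
      have n3 : v ≠ 1 := fun e => hvn (e ▸ one_mem _)
      have n4 : v ≠ z := fun e => hvn (e ▸ mem_zpowers _)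
      have n5 : v ≠ z⁻¹ := fun e => hvn (e ▸ inv_mem (mem_zpowers _))
      rw [Finset.card_insert_of_notMem, Finset.card_insert_of_notMem, Finset.card_pair] <;>
        simp [Subtype.ext_iff, n1, Ne.symm n1, n2, n3, Ne.symm n3, n4, Ne.symm n4, Ne.symm n5, inv_eq_one]
    have hsub : ({1, ⟨z, hzP⟩, ⟨z, hzP⟩⁻¹, ⟨v, hv⟩} : Finset ↥(P : Subgroup G)) ⊆
        Finset.univ.filter (fun a => a ^ 3 = 1) := by
      intro a ha
      simp only [Finset.mem_insert, Finset.mem_singleton] at ha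
      refine Finset.mem_filter.2 ⟨Finset.mem_univ _, Subtype.ext ?_⟩
      have hz1 : z ^ 3 = 1 := hz ▸ pow_orderOf_eq_one z
      have hv1 : v ^ 3 = 1 := hv3 ▸ pow_orderOf_eq_one v
      rcases ha with rfl | rfl | rfl | rfl <;> simp [hz1, hv1]
    have := (Finset.card_le_card hsub).trans hle
    omega
  have hz1 : z ≠ 1 := fun e => by rw [e, orderOf_one] at hz; omega
  have hPN : (P : Subgroup G) ≤ normalizer (zpowers z : Set G) := fun p hp => by
    refine Invol.mem_normalizer_of_map_eq ?_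
    rw [MonoidHom.map_zpowers]
    exact huniq _ (mul_mem (mul_mem hp hzP) (inv_mem hp)) (by
      show orderOf ((MulAut.conj p).toMonoidHom z) = 3
      rw [orderOf_injective _ (MulAut.conj p).injective, hz])
  refine embedded_of (H := normalizer (zpowers z : Set G)) (fun e => ?_)
    (hz ▸ Subgroup.orderOf_dvd_natCard _ (hPN hzP)) fun v hv hv3 g hg => ?_
  · rcases (Subgroup.normalizer_eq_top_iff.1 e).eq_bot_or_eq_top with b | b
    · exact hz1 (zpowers_eq_bot.1 b)
    · haveI : IsCyclic G := ⟨⟨z, fun y => Subgroup.mem_zpowers_iff.1 (b.ge (mem_top y))⟩⟩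
      exact hna inferInstance
  have key : ∀ u ∈ normalizer (zpowers z : Set G), orderOf u = 3 → zpowers u = zpowers z := by
    intro u hu hu3
    obtain ⟨h, hh, hu'⟩ := conj_into_sylow P hPN hu (n := 1) (by rw [hu3, pow_one])
    have h1 := huniq _ hu' (by rw [Invol.orderOf_conj_eq, hu3])
    have h2 : u ∈ zpowers z := by
      refine (Subgroup.mem_normalizer_iff.1 hh u).2 ?_
      rw [← h1]
      exact mem_zpowers _
    exact Subgroup.eq_of_le_of_card_ge (zpowers_le.2 h2) (by rw [Nat.card_zpowers, Nat.card_zpowers, hu3, hz])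
  have h2 : orderOf (g⁻¹ * v * g) = 3 := by simpa [hv3] using Invol.orderOf_conj_eq g⁻¹ v
  refine Invol.mem_normalizer_of_map_eq ?_
  conv_lhs => rw [← key _ hg h2]
  rw [MonoidHom.map_zpowers, ← key v hv hv3]
  congr 1
  show g * (g⁻¹ * v * g) * g⁻¹ = v
  group

variable {Ω : Type v} [MulAction G Ω] [Finite Ω]

theorem embedded_of_exact [IsPretransitive G Ω] (P : Sylow 3 G) (h3 : 3 ∣ Nat.card ↥(P : Subgroup G))
    {D : Set Ω} (hne : D.Nonempty) (hD : D ≠ Set.univ) (hP : (P : Subgroup G) ≤ stabilizer G D)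
    (hall : ∀ u ∈ (P : Subgroup G), orderOf u = 3 → fixedBy Ω u = D) : ThreeEmbedded G := by
  haveI : Fact (Nat.Prime 3) := ⟨Nat.prime_three⟩
  have key : ∀ v ∈ stabilizer G D, orderOf v = 3 → fixedBy Ω v = D := by
    intro v hv hv3
    obtain ⟨h, hh, hvP⟩ := conj_into_sylow P hP hv (n := 1) (by rw [hv3, pow_one])
    have h1 := hall _ hvP (by rw [Invol.orderOf_conj_eq, hv3])
    rw [fixedBy_conj] at h1
    have h2 : h • fixedBy Ω v = h • D := h1.trans (mem_stabilizer_iff.1 hh).symm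
    exact smul_left_cancel h h2
  refine embedded_of (stab_ne_top hne hD) (h3.trans (Subgroup.card_dvd_of_le hP)) fun v hv hv3 g hg => ?_
  have e1 := key v hv hv3
  have e2 := key _ hg (by simpa [hv3] using Invol.orderOf_conj_eq g⁻¹ v)
  rw [mem_stabilizer_iff]
  calc g • D = g • fixedBy Ω (g⁻¹ * v * g) := by rw [e2]
    _ = fixedBy Ω (g * (g⁻¹ * v * g) * g⁻¹) := smul_fixedBy Ω _ _
    _ = fixedBy Ω v := by congr 1; group
    _ = D := e1

/-- The setwise stabilizer of an odd set has odd order when point stabilizers do. -/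
theorem odd_stab (hodd : ∀ c : Ω, Odd (Nat.card ↥(stabilizer G c))) {D : Set Ω} (hD : Odd D.ncard) :
    Odd (Nat.card ↥(stabilizer G D)) := by
  classical
  haveI : Fact (Nat.Prime 2) := ⟨Nat.prime_two⟩
  refine Nat.not_even_iff_odd.1 fun he => ?_
  obtain ⟨t, ht, ht2⟩ := Invol.exists_orderOf_two_mem he
  have hmap : ∀ c ∈ D, t • c ∈ D := fun c hc => by
    have h := Set.smul_mem_smul_set (a := t) hc
    rwa [mem_stabilizer_iff.1 ht] at h
  let σ : Equiv.Perm ↥D := Function.Involutive.toPerm (fun c => ⟨t • (c : Ω), hmap c c.2⟩) fun c => Subtype.ext (by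
    show t • t • (c : Ω) = c
    rw [smul_smul, Invol.mul_self_of_orderOf_two ht2, one_smul])
  haveI := Fintype.ofFinite ↥D
  obtain ⟨c, hc⟩ := Equiv.Perm.exists_fixed_point_of_prime (p := 2) (n := 1) (σ := σ)
    (by rw [← Nat.card_eq_fintype_card, Nat.card_coe_set_eq]; exact hD.not_two_dvd_nat)
    (Equiv.ext fun c => by rw [pow_one, pow_two]; exact (σ.apply_symm_apply c))
  refine Nat.not_even_iff_odd.2 (hodd c) (Invol.even_card_of_mem ht2 ?_)
  exact mem_stabilizer_iff.2 (congrArg Subtype.val hc)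

/-- In an odd-order group permuting three points the conjugates act alike. -/
theorem same_on_three {T : Set Ω} (hT : T.ncard = 3) (hodd : Odd (Nat.card ↥(stabilizer G T))) {k y : G}
    (hk : k ∈ stabilizer G T) (hy : y ∈ stabilizer G T) {c : Ω} (hc : c ∈ T) :
    (k * y * k⁻¹) • c = y • c := by
  classical
  let act : MulAction ↥(stabilizer G T) ↥T :=
    { smul := fun g d => ⟨(g : G) • (d : Ω), by
        have h := Set.smul_mem_smul_set (a := (g : G)) d.2
        rwa [mem_stabilizer_iff.1 g.2] at h⟩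
      one_smul := fun d => Subtype.ext (one_smul G (d : Ω))
      mul_smul := fun g l d => Subtype.ext (mul_smul (g : G) (l : G) (d : Ω)) }
  let ρ : ↥(stabilizer G T) →* Equiv.Perm ↥T := @MulAction.toPermHom _ ↥T _ act
  haveI : Finite ↥T := Subtype.finite
  have h6 : Nat.card ρ.range ∣ 6 := by
    have h := Subgroup.card_subgroup_dvd_card ρ.range
    rwa [Nat.card_perm, Nat.card_coe_set_eq, hT] at h
  have ho : Odd (Nat.card ρ.range) := hodd.of_dvd_nat (Subgroup.card_range_dvd ρ)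
  have h13 : Nat.card ρ.range = 1 ∨ Nat.card ρ.range = 3 := by
    have hle := Nat.le_of_dvd (by norm_num) h6
    obtain ⟨j, hj⟩ := ho
    rcases (show j = 0 ∨ j = 1 ∨ j = 2 by omega) with rfl | rfl | rfl
    · omega
    · omega
    · rw [hj] at h6; norm_num at h6
  have hcomm : ρ ⟨k, hk⟩ * ρ ⟨y, hy⟩ = ρ ⟨y, hy⟩ * ρ ⟨k, hk⟩ := by
    haveI : Fact (Nat.Prime 3) := ⟨Nat.prime_three⟩
    haveI : IsCyclic ρ.range := by
      rcases h13 with h | h
      · haveI : Subsingleton ρ.range := (Nat.card_eq_one_iff_unique.1 h).1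
        infer_instance
      · exact isCyclic_of_prime_card h
    let := IsCyclic.commGroup (α := ρ.range)
    exact congrArg Subtype.val (mul_comm (⟨ρ ⟨k, hk⟩, _, rfl⟩ : ρ.range) ⟨ρ ⟨y, hy⟩, _, rfl⟩)
  have e : ρ (⟨k, hk⟩ * ⟨y, hy⟩ * ⟨k, hk⟩⁻¹) = ρ ⟨y, hy⟩ := by
    rw [map_mul, map_mul, map_inv, hcomm, mul_inv_cancel_right]
  exact congrArg Subtype.val (DFunLike.congr_fun e (⟨c, hc⟩ : ↥T))

/-- The remaining configuration: `D₀` is the fixed set of `P` and elements of order three fix at most three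
more points. -/
structure Ctx (P : Sylow 3 G) (D₀ : Set Ω) : Prop where
  odd : ∀ c : Ω, Odd (Nat.card ↥(stabilizer G c))
  big : 27 ≤ Nat.card ↥(P : Subgroup G)
  small : D₀.ncard ≤ 1
  fix : ∀ p ∈ (P : Subgroup G), D₀ ⊆ fixedBy Ω p
  all : ∀ c : Ω, (∀ p ∈ (P : Subgroup G), p • c = c) → c ∈ D₀
  few : Few (G := G) Ω 3 (D₀.ncard + 3)
  size : ∀ u ∈ (P : Subgroup G), orderOf u = 3 → fixedBy Ω u ≠ D₀ → (fixedBy Ω u).ncard = D₀.ncard + 3

namespace Ctx

variable {P : Sylow 3 G} {D₀ : Set Ω}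

theorem pG (_d : Ctx P D₀) : IsPGroup 3 ↥(P : Subgroup G) := P.isPGroup'

theorem exact_fix (d : Ctx P D₀) {D : Set Ω} (hD : D.ncard = D₀.ncard + 3) {S : Subgroup G} (hS : IsPGroup 3 S)
    {x : G} (hx : x ∈ S) (hx1 : x ≠ 1) (h : x ∈ fixingSubgroup G D) : fixedBy Ω x = D := by
  haveI : Fact (Nat.Prime 3) := ⟨Nat.prime_three⟩
  exact fixed_eq (by rw [hD]; exact d.few) hS hx hx1 h

theorem card_le_three_mul (d : Ctx P D₀) {D : Set Ω} (hD : D.ncard = D₀.ncard + 3) {K : Subgroup G}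
    (hKP : K ≤ (P : Subgroup G)) (hK : K ≤ stabilizer G D) :
    Nat.card K ≤ Nat.card ↥(K ⊓ fixingSubgroup G D) * 3 := by
  haveI : Fact (Nat.Prime 3) := ⟨Nat.prime_three⟩
  exact card_le_of_meet (d.pG.to_le hKP) hK fun k hk => pow_three_le_three (by have := d.small; omega) hk

theorem cent_nine (d : Ctx P D₀) {x : ↥(P : Subgroup G)} (hx : orderOf x = 3)
    (hle : Nat.card ↥((P : Subgroup G) ⊓ centralizer ({(x : G)} : Set G)) ≤ 9) :
    Nat.card (centralizer ({x} : Set ↥(P : Subgroup G))) = 9 := by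
  haveI : Fact (Nat.Prime 3) := ⟨Nat.prime_three⟩
  have hle' : Nat.card (centralizer ({x} : Set ↥(P : Subgroup G))) ≤ 9 := by
    refine le_trans (Nat.card_le_card_of_injective (fun c => (⟨((c : ↥(P : Subgroup G)) : G),
      Subgroup.mem_inf.2 ⟨(c : ↥(P : Subgroup G)).2, mem_centralizer_singleton_iff.2
        (congrArg Subtype.val (mem_centralizer_singleton_iff.1 c.2))⟩⟩ :
        ↥((P : Subgroup G) ⊓ centralizer ({(x : G)} : Set G)))) fun a b e => ?_) hle
    exact Subtype.ext (Subtype.ext (by simpa using e))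
  set C := centralizer ({x} : Set ↥(P : Subgroup G)) with hC
  have hxC : zpowers x ≤ C := zpowers_le.2 (mem_centralizer_singleton_iff.2 rfl)
  have hZC : center ↥(P : Subgroup G) ≤ C := fun z hz =>
    mem_centralizer_singleton_iff.2 (Subgroup.mem_center_iff.1 hz x).symm
  have hne : Nat.card C ≠ 3 := fun h => by
    have e : zpowers x = C := Subgroup.eq_of_le_of_card_ge hxC (by rw [h, Nat.card_zpowers, hx])
    haveI : Nontrivial ↥(P : Subgroup G) := Finite.one_lt_card_iff_nontrivial.1 (by have := d.big; omega)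
    haveI := d.pG.center_nontrivial
    have e2 : center ↥(P : Subgroup G) = zpowers x := Subgroup.eq_of_le_of_card_ge (e ▸ hZC) (by
      rw [Nat.card_zpowers, hx]
      have h1 := Subgroup.card_dvd_of_le (e ▸ hZC)
      rw [Nat.card_zpowers, hx] at h1
      have h2 := Finite.one_lt_card (α := center ↥(P : Subgroup G))
      rcases (Nat.dvd_prime Nat.prime_three).1 h1 with h3 | h3 <;> omega)
    have htop : C = ⊤ := (Subgroup.eq_top_iff' _).2 fun c =>
      mem_centralizer_singleton_iff.2 (Subgroup.mem_center_iff.1 (e2.ge (mem_zpowers x)) c)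
    rw [htop, Subgroup.card_top] at h
    have := d.big
    omega
  obtain ⟨i, hi⟩ := IsPGroup.iff_card.1 (d.pG.to_subgroup C)
  have h3 : 3 ≤ Nat.card C := by
    refine le_trans (le_of_eq ?_) (Subgroup.card_le_of_le hxC)
    rw [Nat.card_zpowers, hx]
  rw [hi] at hle' hne h3 ⊢
  rcases i with _ | _ | _ | i
  · norm_num at h3
  · norm_num at hne
  · norm_num
  · exfalso
    have := Nat.pow_le_pow_right (show 1 ≤ 3 by norm_num) (show 3 ≤ i + 1 + 1 + 1 by omega)
    omega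

theorem card_fix_conj {x c : G} (h : IsConj x c) : (fixedBy Ω c).ncard = (fixedBy Ω x).ncard := by
  obtain ⟨g, rfl⟩ := _root_.isConj_iff.1 h
  rw [fixedBy_conj, ncard_smul]

theorem extra_ne {D : Set Ω} {u : G} (hD : (fixedBy Ω u).ncard = D.ncard + 3) : fixedBy Ω u ≠ D :=
  fun e => by rw [e] at hD; omega

/-- Elements of order three with `NineConj` do not exist. -/
theorem no_nine [IsSimpleGroup G] (hna : ¬ IsMulCommutative G) (d : Ctx P D₀) {x : ↥(P : Subgroup G)}
    (hx : orderOf x = 3) (hfix : (fixedBy Ω (x : G)).ncard = D₀.ncard + 3) (hN : NineConj P x) : False := by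
  haveI : Fact (Nat.Prime 3) := ⟨Nat.prime_three⟩
  refine nine_contra hna P x hx hN d.big ?_
  rcases (show D₀.ncard = 1 ∨ D₀.ncard = 0 by have := d.small; omega) with h1 | h0
  · left
    refine (odd_stab d.odd (D := D₀) (by rw [h1]; exact odd_one)).of_dvd_nat (Subgroup.card_dvd_of_le fun g hg => ?_)
    have hsub : g • D₀ ⊆ D₀ := by
      rintro _ ⟨c, hc, rfl⟩
      refine d.all _ fun p hp => ?_
      have hp' : g⁻¹ * p * g ∈ (P : Subgroup G) := by
        simpa using (Subgroup.mem_normalizer_iff.1 (inv_mem hg) p).1 hp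
      show p • g • c = g • c
      calc p • g • c = g • (g⁻¹ * p * g) • c := by rw [smul_smul, smul_smul]; congr 1; group
        _ = g • c := by rw [show (g⁻¹ * p * g) • c = c from d.fix _ hp' hc]
    exact mem_stabilizer_iff.2 (Set.eq_of_subset_of_ncard_le hsub (ncard_smul g D₀).ge (Set.toFinite _))
  · right
    refine (odd_stab d.odd (D := fixedBy Ω (x : G)) (by rw [hfix, h0]; decide)).of_dvd_nat
      (Subgroup.card_dvd_of_le fun g hg => ?_)
    have hm : g * (x : G) * g⁻¹ ∈ zpowers (x : G) := (Subgroup.mem_normalizer_iff.1 hg _).1 (mem_zpowers _)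
    have hm1 : g * (x : G) * g⁻¹ ≠ 1 := fun e => by
      have h2 : (x : G) = 1 := conj_eq_one_iff.1 e
      have h3 := Subgroup.orderOf_coe x
      rw [h2, orderOf_one, hx] at h3
      omega
    have e := d.exact_fix (D := fixedBy Ω (x : G)) hfix (d.pG.to_le (zpowers_le.2 x.2)) hm hm1
      ((zpowers_le.2 (mem_fixing.2 subset_rfl)) hm)
    rw [fixedBy_conj] at e
    exact mem_stabilizer_iff.2 e

/-- The case of a triple stabilized by `P`, no element outside the kernel fixing a further point. -/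
theorem case_transfer [IsSimpleGroup G] (hna : ¬ IsMulCommutative G) (d : Ctx P D₀) {D : Set Ω}
    (hD : D.ncard = D₀.ncard + 3) (hD₀ : D₀ ⊆ D) (hPD : (P : Subgroup G) ≤ stabilizer G D)
    (hidx : ((P : Subgroup G) ⊓ fixingSubgroup G D).relIndex (P : Subgroup G) = 3)
    (hUne : (P : Subgroup G) ⊓ fixingSubgroup G D ≠ ⊥)
    (hout : ∀ p ∈ (P : Subgroup G), p ∉ fixingSubgroup G D → fixedBy Ω p = D₀) : False := by
  classical
  haveI : Fact (Nat.Prime 3) := ⟨Nat.prime_three⟩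
  set U := (P : Subgroup G) ⊓ fixingSubgroup G D with hU
  have hnorm : (U.subgroupOf (P : Subgroup G)).Normal := ⟨fun a ha g => mem_subgroupOf.2 (Subgroup.mem_inf.2
    ⟨(g * a * g⁻¹).2, by
      have h := (conj_mem_fixing (g := (g : G))).2 (Subgroup.mem_inf.1 (mem_subgroupOf.1 ha)).2
      rwa [mem_stabilizer_iff.1 (hPD g.2)] at h⟩)⟩
  have hUne' : U.subgroupOf (P : Subgroup G) ≠ ⊥ := fun e => hUne ((Subgroup.eq_bot_iff_forall _).2 fun u hu =>
    congrArg Subtype.val ((Subgroup.eq_bot_iff_forall _).1 e ⟨u, (Subgroup.mem_inf.1 hu).1⟩ (mem_subgroupOf.2 hu)))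
  haveI := d.pG.isNilpotent
  obtain ⟨⟨z, hz⟩, hz1⟩ := Subgroup.ne_bot_iff_exists_ne_one.1
    (Grp.inf_center_ne_bot (U.subgroupOf (P : Subgroup G)) hUne')
  have hzU := Subgroup.mem_inf.1 (mem_subgroupOf.1 (Subgroup.mem_inf.1 hz).1)
  have hzc : ∀ p ∈ (P : Subgroup G), p * (z : G) = z * p := fun p hp =>
    congrArg Subtype.val (Subgroup.mem_center_iff.1 (Subgroup.mem_inf.1 hz).2 ⟨p, hp⟩)
  have hz1' : (z : G) ≠ 1 := fun e => hz1 (Subtype.ext (Subtype.ext e))
  -- a conjugate of `z` in the stabilizer of `D` moves back to `D`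
  have hback : ∀ m : G, m * (z : G) * m⁻¹ ∈ stabilizer G D → m • D = D := by
    intro m hm
    obtain ⟨i, hi⟩ := (IsPGroup.iff_orderOf.1 d.pG) z
    obtain ⟨h, hh, hP'⟩ := conj_into_sylow P hPD hm (n := i)
      (by rw [Invol.orderOf_conj_eq, Subgroup.orderOf_coe, hi])
    have hfixz : fixedBy Ω (h * (m * (z : G) * m⁻¹) * h⁻¹) = h • m • D := by
      rw [fixedBy_conj, fixedBy_conj, d.exact_fix hD d.pG hzU.1 hz1' hzU.2]
    have hmem : h * (m * (z : G) * m⁻¹) * h⁻¹ ∈ fixingSubgroup G D := by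
      by_contra hn
      have := congrArg Set.ncard ((hout _ hP' hn).symm.trans hfixz)
      rw [ncard_smul, ncard_smul, hD] at this
      omega
    have e := d.exact_fix hD d.pG hP' (fun e => hz1' (conj_eq_one_iff.1 (conj_eq_one_iff.1 e))) hmem
    rw [hfixz] at e
    exact smul_left_cancel h (e.trans (mem_stabilizer_iff.1 hh).symm)
  obtain ⟨φ, hφ⟩ := exists_char_of_index_three (U.subgroupOf (P : Subgroup G)) hidx
  obtain ⟨⟨y, hy⟩, hyU⟩ : ∃ y : ↥(P : Subgroup G), y ∉ U.subgroupOf (P : Subgroup G) := by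
    by_contra hcon
    push Not at hcon
    rw [Subgroup.relIndex, (Subgroup.eq_top_iff' _).2 hcon, Subgroup.index_top] at hidx
    omega
  have hyD : y ∉ fixingSubgroup G D := fun h => hyU (mem_subgroupOf.2 (Subgroup.mem_inf.2 ⟨hy, h⟩))
  have hy0 : fixedBy Ω y = D₀ := hout y hy hyD
  have hy3 : (y ^ 3) ∈ fixingSubgroup G D := by
    haveI := hnorm
    have h := Subgroup.pow_index_mem (U.subgroupOf (P : Subgroup G)) (⟨y, hy⟩ : ↥(P : Subgroup G))
    rw [show (U.subgroupOf (P : Subgroup G)).index = 3 from hidx] at h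
    exact (Subgroup.mem_inf.1 (mem_subgroupOf.1 h)).2
  refine transfer_contra hna P φ y hy (fun h => hyU ((hφ _).1 h)) (fun g hg => ?_) (fun j g hg => ?_)
  · have hy' : fixedBy Ω (g⁻¹ * y * g) = g⁻¹ • D₀ := by
      rw [show g⁻¹ * y * g = g⁻¹ * y * g⁻¹⁻¹ by rw [inv_inv], fixedBy_conj, hy0]
    have hne : g⁻¹ * y * g ≠ 1 := fun e => hyD (by
      rw [show y = g * (g⁻¹ * y * g) * g⁻¹ by group, e, mul_one, mul_inv_cancel]; exact one_mem _)
    have hy'D : g⁻¹ * y * g ∉ fixingSubgroup G D := fun h => by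
      have := congrArg Set.ncard ((d.exact_fix hD d.pG hg hne h).symm.trans hy')
      rw [ncard_smul, hD] at this
      omega
    have hy'0 : fixedBy Ω (g⁻¹ * y * g) = D₀ := hout _ hg hy'D
    set C := centralizer ({g⁻¹ * y * g} : Set G) with hC
    have hzC : zpowers (z : G) ≤ C :=
      zpowers_le.2 (mem_centralizer_singleton_iff.2 (hzc _ hg).symm)
    have hzg : g⁻¹ * (z : G) * g ∈ C := mem_centralizer_singleton_iff.2 (by
      calc g⁻¹ * (z : G) * g * (g⁻¹ * y * g) = g⁻¹ * ((z : G) * y) * g := by group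
        _ = g⁻¹ * (y * (z : G)) * g := by rw [hzc y hy]
        _ = _ := by group)
    have hzp : IsPGroup 3 ↥(zpowers (z : G)) := d.pG.to_le (zpowers_le.2 z.2)
    obtain ⟨Q, hQ⟩ := (hzp.comap_subtype (K := C)).exists_le_sylow
    set Q' := (Q : Subgroup C).map C.subtype with hQ'
    have hQp : IsPGroup 3 Q' := Q.isPGroup'.map _
    have hzQ : (z : G) ∈ Q' := ⟨⟨z, hzC (mem_zpowers _)⟩, hQ (mem_zpowers (z : G)), rfl⟩
    have hQD : Q' ≤ stabilizer G D := by
      by_contra hQD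
      obtain ⟨m, -, hmD, hmn⟩ := exists_moving hQp hQD
      refine hmD (hback m (Subgroup.mem_inf.1 ((hmn (z : G)).1 (Subgroup.mem_inf.2 ⟨hzQ, ?_⟩))).2)
      exact fixing_le_stab D hzU.2
    have hzgp : IsPGroup 3 ↥(zpowers (g⁻¹ * (z : G) * g)) := by
      obtain ⟨i, hi⟩ := (IsPGroup.iff_orderOf.1 d.pG) z
      refine Invol.isPGroup_zpowers (n := i) ?_
      rw [← hi, ← Subgroup.orderOf_coe z]
      simpa using Invol.orderOf_conj_eq g⁻¹ (z : G)
    obtain ⟨c, hc⟩ := Invol.exists_conj_subset_sylow (hzgp.comap_subtype (K := C)) Q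
    have hcq : (c : G) * (g⁻¹ * (z : G) * g) * (c : G)⁻¹ ∈ Q' :=
      ⟨_, hc ⟨_, hzg⟩ (mem_zpowers (g⁻¹ * (z : G) * g)), rfl⟩
    set k := (c : G) * g⁻¹ with hk
    have hkz : k * (z : G) * k⁻¹ ∈ stabilizer G D := hQD (by
      rw [hk, show (c : G) * g⁻¹ * (z : G) * ((c : G) * g⁻¹)⁻¹ = (c : G) * (g⁻¹ * (z : G) * g) * (c : G)⁻¹ by group]
      exact hcq)
    have hkD := hback k hkz
    have hky : k * y * k⁻¹ = g⁻¹ * y * g := by
      have hcc := mem_centralizer_singleton_iff.1 c.2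
      calc k * y * k⁻¹ = (c : G) * (g⁻¹ * y * g) * (c : G)⁻¹ := by rw [hk]; group
        _ = g⁻¹ * y * g := by rw [hcc]; group
    have hkD₀ : k • D₀ = D₀ := by
      have h := fixedBy_conj (Ω := Ω) k y
      rw [hky, hy'0, hy0] at h
      exact h.symm
    have hT : ∀ q : G, q • D = D → q • D₀ = D₀ → q ∈ stabilizer G (D \ D₀) := fun q h1 h2 => by
      rw [mem_stabilizer_iff, Set.smul_set_sdiff, h1, h2]
    have hPT : ∀ p ∈ (P : Subgroup G), p ∈ stabilizer G (D \ D₀) := fun p hp =>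
      hT p (mem_stabilizer_iff.1 (hPD hp)) (mem_stabilizer_iff.1 (fixing_le_stab D₀ (mem_fixing.2 (d.fix p hp))))
    have hT3 : (D \ D₀).ncard = 3 := by rw [Set.ncard_sdiff hD₀, hD]; omega
    have hmem : (⟨y, hy⟩ : ↥(P : Subgroup G))⁻¹ * ⟨_, hg⟩ ∈ U.subgroupOf (P : Subgroup G) := by
      refine mem_subgroupOf.2 (Subgroup.mem_inf.2 ⟨mul_mem (inv_mem hy) hg, (mem_fixingSubgroup_iff G).2 fun c' hc' => ?_⟩)
      show (y⁻¹ * (g⁻¹ * y * g)) • c' = c'
      rw [mul_smul, inv_smul_eq_iff]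
      by_cases hc0 : c' ∈ D₀
      · rw [show (g⁻¹ * y * g) • c' = c' from d.fix _ hg hc0, show y • c' = c' from d.fix y hy hc0]
      · rw [← hky]
        exact same_on_three hT3 (odd_stab d.odd (by rw [hT3]; decide)) (hT k hkD hkD₀) (hPT y hy) ⟨hc', hc0⟩
    have h := (hφ _).2 hmem
    rw [map_mul, map_inv, inv_mul_eq_one] at h
    exact h.symm
  · have hm : y ^ (3 ^ (j + 1)) ∈ fixingSubgroup G D := by
      rw [pow_succ', pow_mul]; exact pow_mem hy3 _
    by_cases h1 : y ^ (3 ^ (j + 1)) = 1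
    · refine Eq.trans (congrArg φ (Subtype.ext (a2 := (1 : ↥(P : Subgroup G))) ?_)) (map_one φ)
      show g⁻¹ * y ^ (3 ^ (j + 1)) * g = 1
      rw [h1, mul_one, inv_mul_cancel]
    refine (hφ _).2 (mem_subgroupOf.2 (Subgroup.mem_inf.2 ⟨hg, ?_⟩))
    by_contra hn
    have e := congrArg Set.ncard (hout _ hg hn)
    rw [show g⁻¹ * y ^ (3 ^ (j + 1)) * g = g⁻¹ * y ^ (3 ^ (j + 1)) * g⁻¹⁻¹ by rw [inv_inv], fixedBy_conj, ncard_smul,
      d.exact_fix hD d.pG (pow_mem hy _) h1 hm, hD] at e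
    omega

/-- The case of a triple stabilized by `P`. -/
theorem case_triple [IsSimpleGroup G] (hna : ¬ IsMulCommutative G) (d : Ctx P D₀) {D : Set Ω}
    (hD : D.ncard = D₀.ncard + 3) (hD₀ : D₀ ⊆ D) (hPD : (P : Subgroup G) ≤ stabilizer G D)
    (hUne : (P : Subgroup G) ⊓ fixingSubgroup G D ≠ ⊥) : False := by
  classical
  haveI : Fact (Nat.Prime 3) := ⟨Nat.prime_three⟩
  set U := (P : Subgroup G) ⊓ fixingSubgroup G D with hU
  have hidx : U.relIndex (P : Subgroup G) = 3 := by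
    obtain ⟨i, hi⟩ := IsPGroup.iff_card.1 d.pG
    obtain ⟨j, -, hj⟩ := (Nat.dvd_prime_pow Nat.prime_three).1 (hi ▸ (U.subgroupOf (P : Subgroup G)).index_dvd_card)
    have h1 : Nat.card ↥(U.subgroupOf (P : Subgroup G)) * (U.subgroupOf (P : Subgroup G)).index = Nat.card ↥(P : Subgroup G) :=
      Subgroup.card_mul_index _
    rw [Nat.card_congr (subgroupOfEquivOfLe (inf_le_left : U ≤ (P : Subgroup G))).toEquiv] at h1
    have h3 : (U.subgroupOf (P : Subgroup G)).index ≤ 3 :=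
      Nat.le_of_mul_le_mul_left (h1.trans_le (d.card_le_three_mul hD le_rfl hPD)) Nat.card_pos
    show (U.subgroupOf (P : Subgroup G)).index = 3
    rw [hj] at h3 ⊢
    rcases j with _ | _ | j
    · exfalso
      rw [pow_zero] at hj
      have hle : (P : Subgroup G) ≤ fixingSubgroup G D := fun p hp =>
        (Subgroup.mem_inf.1 (mem_subgroupOf.1 ((Subgroup.index_eq_one.1 hj).ge (mem_top (⟨p, hp⟩ : ↥(P : Subgroup G)))))).2
      have hsub : D ⊆ D₀ := fun c hc => d.all c fun p hp => (mem_fixingSubgroup_iff G).1 (hle hp) c hc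
      have := Set.ncard_le_ncard hsub (Set.toFinite _)
      omega
    · norm_num
    · have := Nat.pow_le_pow_right (show 1 ≤ 3 by norm_num) (show 2 ≤ j + 1 + 1 by omega)
      omega
  have hnorm : (U.subgroupOf (P : Subgroup G)).Normal := ⟨fun a ha g => mem_subgroupOf.2 (Subgroup.mem_inf.2
    ⟨(g * a * g⁻¹).2, by
      have h := (conj_mem_fixing (g := (g : G))).2 (Subgroup.mem_inf.1 (mem_subgroupOf.1 ha)).2
      rwa [mem_stabilizer_iff.1 (hPD g.2)] at h⟩)⟩
  by_cases hex : ∀ p ∈ (P : Subgroup G), p ∉ fixingSubgroup G D → fixedBy Ω p = D₀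
  · exact d.case_transfer hna hD hD₀ hPD hidx hUne hex
  push Not at hex
  obtain ⟨p, hp, hpD, hpfix⟩ := hex
  obtain ⟨c, hc, hc0⟩ : ∃ c ∈ fixedBy Ω p, c ∉ D₀ := by
    by_contra hcon
    push Not at hcon
    exact hpfix (Set.Subset.antisymm hcon (d.fix p hp))
  -- an element outside `U` fixing a point of `D` fixes a point of `D₀` only
  have hinD : ∀ q ∈ (P : Subgroup G), q ∉ fixingSubgroup G D → ∀ c ∈ D, q • c = c → c ∈ D₀ := by
    intro q hq hqD c hc hqc
    refine d.all c fun r hr => ?_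
    set V := ((P : Subgroup G) ⊓ stabilizer G c).subgroupOf (P : Subgroup G) with hV
    have hle : U.subgroupOf (P : Subgroup G) ≤ V := fun u hu => mem_subgroupOf.2 (Subgroup.mem_inf.2
      ⟨u.2, (mem_fixingSubgroup_iff G).1 (Subgroup.mem_inf.1 (mem_subgroupOf.1 hu)).2 c hc⟩)
    have hqV : (⟨q, hq⟩ : ↥(P : Subgroup G)) ∈ V := mem_subgroupOf.2 (Subgroup.mem_inf.2 ⟨hq, hqc⟩)
    have hd3 := Subgroup.index_dvd_of_le hle
    rw [show (U.subgroupOf (P : Subgroup G)).index = 3 from hidx] at hd3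
    rcases (Nat.dvd_prime Nat.prime_three).1 hd3 with e | e
    · exact (Subgroup.mem_inf.1 (mem_subgroupOf.1 ((Subgroup.index_eq_one.1 e).ge (mem_top (⟨r, hr⟩ : ↥(P : Subgroup G)))))).2
    · exfalso
      have e2 := Subgroup.eq_of_le_of_card_ge hle (by
        have h1 := V.card_mul_index
        have h2 := (U.subgroupOf (P : Subgroup G)).card_mul_index
        rw [show (U.subgroupOf (P : Subgroup G)).index = 3 from hidx] at h2
        rw [e] at h1
        omega)
      exact hqD (Subgroup.mem_inf.1 (mem_subgroupOf.1 (e2.ge hqV))).2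
  have hcD : c ∉ D := fun h => hc0 (hinD p hp hpD c h hc)
  have hp3 : orderOf p = 3 := by
    refine orderOf_eq_prime ?_ fun e => hpD (e ▸ one_mem _)
    by_contra h
    have hm : p ^ 3 ∈ fixingSubgroup G D := by
      haveI := hnorm
      have h := Subgroup.pow_index_mem (U.subgroupOf (P : Subgroup G)) (⟨p, hp⟩ : ↥(P : Subgroup G))
      rw [show (U.subgroupOf (P : Subgroup G)).index = 3 from hidx] at h
      exact (Subgroup.mem_inf.1 (mem_subgroupOf.1 h)).2
    exact hcD ((d.exact_fix hD d.pG (pow_mem hp 3) h hm).le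
      (subset_fixedBy_pow (D := {c}) (Set.singleton_subset_iff.2 hc) 3 rfl))
  -- elements outside `U` fixing further points
  have hnine : ∀ q : ↥(P : Subgroup G), orderOf q = 3 → (q : G) ∉ fixingSubgroup G D →
      (fixedBy Ω (q : G)).ncard = D₀.ncard + 3 →
        Nat.card (centralizer ({q} : Set ↥(P : Subgroup G))) = 9 := by
    intro q hq hqD hqf
    refine d.cent_nine hq ?_
    set K := (P : Subgroup G) ⊓ centralizer ({(q : G)} : Set G)
    refine (d.card_le_three_mul hD inf_le_left (inf_le_left.trans hPD)).trans ?_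
    have h2 : Nat.card ↥(K ⊓ fixingSubgroup G D) ≤ 3 := by
      refine (d.card_le_three_mul (D := fixedBy Ω (q : G)) hqf (inf_le_left.trans inf_le_left) ?_).trans ?_
      · intro k hk
        exact mem_stabilizer_iff.2 (smul_fixedBy_of_commute
          (mem_centralizer_singleton_iff.1 (Subgroup.mem_inf.1 (Subgroup.mem_inf.1 hk).1).2))
      · have e : K ⊓ fixingSubgroup G D ⊓ fixingSubgroup G (fixedBy Ω (q : G)) = ⊥ := by
          refine (Subgroup.eq_bot_iff_forall _).2 fun k hk => ?_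
          obtain ⟨hk1, hk2⟩ := Subgroup.mem_inf.1 hk
          obtain ⟨hk3, hk4⟩ := Subgroup.mem_inf.1 hk1
          by_contra hk0
          have hkP := (Subgroup.mem_inf.1 hk3).1
          have e1 := (d.exact_fix hD d.pG hkP hk0 hk4).symm.trans (d.exact_fix hqf d.pG hkP hk0 hk2)
          exact hqD (mem_fixing.2 e1.le)
        rw [e, Subgroup.card_bot]
    exact (Nat.mul_le_mul_right 3 h2).trans (by norm_num)
  set x : ↥(P : Subgroup G) := ⟨p, hp⟩ with hxdef
  have hxfix : (fixedBy Ω p).ncard = D₀.ncard + 3 := d.size p hp hp3 fun e => hc0 (e.le hc)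
  have hx3 : orderOf x = 3 := by rw [hxdef, Subgroup.orderOf_mk, hp3]
  by_cases hN : NineConj P x
  · exact d.no_nine hna hx3 hxfix hN
  unfold NineConj at hN
  push Not at hN
  obtain ⟨c₁, hc₁, hc9⟩ := hN
  have hc₁fix : (fixedBy Ω (c₁ : G)).ncard = D₀.ncard + 3 := (card_fix_conj hc₁).trans hxfix
  have hc₁ord : orderOf c₁ = 3 := by rw [← Subgroup.orderOf_coe, ← Invol.orderOf_eq_of_isConj hc₁]; exact hp3
  have hc₁U : (c₁ : G) ∈ fixingSubgroup G D := by_contra fun h => hc9 (hnine c₁ hc₁ord h hc₁fix)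
  obtain ⟨h, hh⟩ := _root_.isConj_iff.1 hc₁.symm
  have hhD : h • D = fixedBy Ω p := by
    rw [← d.exact_fix hD d.pG c₁.2 (fun e => by rw [← Subgroup.orderOf_coe, e, orderOf_one] at hc₁ord; omega) hc₁U,
      ← fixedBy_conj]
    exact congrArg _ hh
  have hx9 := hnine x hx3 hpD hxfix
  obtain ⟨-, hZ3, hZD', -, hclx, -⟩ := nine_struct d.pG hx3 hx9 d.big
  obtain ⟨z, hzc, hz3⟩ : ∃ z : ↥(P : Subgroup G), z ∈ center ↥(P : Subgroup G) ∧ orderOf z = 3 := by
    obtain ⟨z, hz⟩ := exists_prime_orderOf_dvd_card' (G := center ↥(P : Subgroup G)) 3 (by rw [hZ3])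
    exact ⟨z, z.2, by rwa [Subgroup.orderOf_coe]⟩
  haveI := d.pG.isNilpotent
  have hzU : (z : G) ∈ fixingSubgroup G D := by
    haveI := hnorm
    have hne' : U.subgroupOf (P : Subgroup G) ≠ ⊥ := fun e => hUne ((Subgroup.eq_bot_iff_forall _).2 fun u hu =>
      congrArg Subtype.val ((Subgroup.eq_bot_iff_forall _).1 e ⟨u, (Subgroup.mem_inf.1 hu).1⟩ (mem_subgroupOf.2 hu)))
    have h1 := Grp.inf_center_ne_bot (U.subgroupOf (P : Subgroup G)) hne'
    have e : U.subgroupOf (P : Subgroup G) ⊓ center ↥(P : Subgroup G) = center ↥(P : Subgroup G) := by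
      refine Subgroup.eq_of_le_of_card_ge inf_le_right ?_
      have hd := Subgroup.card_dvd_of_le (inf_le_right : U.subgroupOf (P : Subgroup G) ⊓ center ↥(P : Subgroup G) ≤ _)
      rw [hZ3] at hd ⊢
      rcases (Nat.dvd_prime Nat.prime_three).1 hd with e | e
      · exact absurd (Subgroup.card_eq_one.1 e) h1
      · exact e.ge
    exact (Subgroup.mem_inf.1 (mem_subgroupOf.1 (Subgroup.mem_inf.1 (e.ge hzc)).1)).2
  have hz1 : (z : G) ≠ 1 := fun e => by rw [← Subgroup.orderOf_coe, e, orderOf_one] at hz3; omega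
  have hzfix : fixedBy Ω (z : G) = D := d.exact_fix hD d.pG z.2 hz1 hzU
  have hzx : (z : G) * p = p * z := (congrArg Subtype.val (Subgroup.mem_center_iff.1 hzc x)).symm
  -- a conjugate of `P` in the stabilizer of `fixedBy p` containing `p` and `z`
  set D1 := fixedBy Ω p with hD1
  obtain ⟨g, hgD, hgx, hgz⟩ : ∃ g : G, g • D = D1 ∧ g⁻¹ * p * g ∈ (P : Subgroup G) ∧
      g⁻¹ * (z : G) * g ∈ (P : Subgroup G) := by
    set E := (P : Subgroup G) ⊓ centralizer ({p} : Set G) with hE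
    set E' := E.map (MulAut.conj h⁻¹).toMonoidHom with hE'
    have hE'D : E' ≤ stabilizer G D := by
      rintro _ ⟨e, he, rfl⟩
      show h⁻¹ * e * h⁻¹⁻¹ ∈ stabilizer G D
      rw [mem_stabilizer_iff, mul_smul, mul_smul, inv_inv, hhD,
        smul_fixedBy_of_commute (mem_centralizer_singleton_iff.1 (Subgroup.mem_inf.1 he).2), ← hD1, ← hhD, inv_smul_smul]
    obtain ⟨s, hs⟩ := Invol.exists_conj_subset_sylow (((d.pG.to_le inf_le_left).map _).comap_subtype
      (K := stabilizer G D) : IsPGroup 3 ↥(E'.subgroupOf (stabilizer G D))) (P.subtype hPD)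
    have key : ∀ e ∈ E, (s : G) * (h⁻¹ * e * h) * (s : G)⁻¹ ∈ (P : Subgroup G) := fun e he => by
      have hm : (MulAut.conj h⁻¹).toMonoidHom e ∈ E' := ⟨e, he, rfl⟩
      have h2 := mem_subgroupOf.1 (hs ⟨_, hE'D hm⟩ hm)
      simpa using h2
    refine ⟨h * (s : G)⁻¹, ?_, ?_, ?_⟩
    · rw [mul_smul, mem_stabilizer_iff.1 (inv_mem s.2), hhD]
    · have h2 := key p (Subgroup.mem_inf.2 ⟨hp, mem_centralizer_singleton_iff.2 rfl⟩)
      rw [show (h * (s : G)⁻¹)⁻¹ * p * (h * (s : G)⁻¹) = (s : G) * (h⁻¹ * p * h) * (s : G)⁻¹ by group]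
      exact h2
    · have h2 := key (z : G) (Subgroup.mem_inf.2 ⟨z.2, mem_centralizer_singleton_iff.2 hzx⟩)
      rw [show (h * (s : G)⁻¹)⁻¹ * (z : G) * (h * (s : G)⁻¹) = (s : G) * (h⁻¹ * (z : G) * h) * (s : G)⁻¹ by group]
      exact h2
  have hconjfix : ∀ v : G, fixedBy Ω (g⁻¹ * v * g) = g⁻¹ • fixedBy Ω v := fun v => by
    rw [show g⁻¹ * v * g = g⁻¹ * v * g⁻¹⁻¹ by rw [inv_inv], fixedBy_conj]
  set x'' : ↥(P : Subgroup G) := ⟨_, hgx⟩ with hx''
  set z'' : ↥(P : Subgroup G) := ⟨_, hgz⟩ with hz''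
  have hx''U : (x'' : G) ∈ fixingSubgroup G D := mem_fixing.2 (by
    show D ⊆ fixedBy Ω (g⁻¹ * p * g)
    rw [hconjfix, ← hD1, ← hgD, inv_smul_smul])
  have hgord : ∀ v : G, orderOf (g⁻¹ * v * g) = orderOf v := fun v => by simpa using Invol.orderOf_conj_eq g⁻¹ v
  have hz''ord : orderOf z'' = 3 := by
    rw [hz'', Subgroup.orderOf_mk, hgord, Subgroup.orderOf_coe, hz3]
  have hz''fix : fixedBy Ω (z'' : G) = g⁻¹ • D := by
    show fixedBy Ω (g⁻¹ * (z : G) * g) = _
    rw [hconjfix, hzfix]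
  have hz''U : (z'' : G) ∉ fixingSubgroup G D := fun hm => by
    have e1 := d.exact_fix hD d.pG z''.2 (fun e => by rw [← Subgroup.orderOf_coe, e, orderOf_one] at hz''ord; omega) hm
    rw [hz''fix, inv_smul_eq_iff, hgD] at e1
    exact hcD (e1.ge hc)
  have hz''9 := hnine z'' hz''ord hz''U (by rw [hz''fix, ncard_smul, hD])
  obtain ⟨-, -, hZD, -, hclz, hcs⟩ := nine_struct d.pG hz''ord hz''9 d.big
  have hx''C : x'' ∈ centralizer ({z''} : Set ↥(P : Subgroup G)) := mem_centralizer_singleton_iff.2 (Subtype.ext (by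
    show g⁻¹ * p * g * (g⁻¹ * (z : G) * g) = g⁻¹ * (z : G) * g * (g⁻¹ * p * g)
    calc g⁻¹ * p * g * (g⁻¹ * (z : G) * g) = g⁻¹ * (p * z) * g := by group
      _ = g⁻¹ * ((z : G) * p) * g := by rw [hzx]
      _ = _ := by group))
  have hx''Z : x'' ∈ center ↥(P : Subgroup G) := by
    have hmemU : ∀ a : ↥(P : Subgroup G), a ∈ U.subgroupOf (P : Subgroup G) ↔ (a : G) ∈ fixingSubgroup G D := fun a =>
      ⟨fun h => (Subgroup.mem_inf.1 (mem_subgroupOf.1 h)).2, fun h => mem_subgroupOf.2 (Subgroup.mem_inf.2 ⟨a.2, h⟩)⟩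
    rcases hcs x'' hx''C with h1 | ⟨t, ht⟩ | ⟨t, ht⟩
    · exact h1
    · refine absurd ?_ hz''U
      have h2 := hnorm.conj_mem _ ((hmemU x'').2 hx''U) t⁻¹
      rw [← ht, inv_inv, show t⁻¹ * (t * z'' * t⁻¹) * t = z'' by group] at h2
      exact (hmemU _).1 h2
    · refine absurd ?_ hz''U
      have h2 := hnorm.conj_mem _ (inv_mem ((hmemU x'').2 hx''U)) t⁻¹
      rw [← ht, inv_inv, show t⁻¹ * (t * z'' * t⁻¹) * t = z'' by group] at h2
      exact (hmemU _).1 h2
  obtain ⟨t, ht⟩ := hclx (x * z) (by rw [inv_mul_cancel_left]; exact hZD' hzc)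
  obtain ⟨r, hr⟩ := hclz (z'' * x''⁻¹) (by rw [inv_mul_cancel_left]; exact inv_mem (hZD hx''Z))
  set a : G := (t : G) with ha
  set b : G := g * (r : G) * g⁻¹ with hb
  have ha1 : a * p * a⁻¹ = p * z := congrArg Subtype.val ht
  have ha2 : a * (z : G) * a⁻¹ = z := by
    rw [show a * (z : G) = z * a from congrArg Subtype.val (Subgroup.mem_center_iff.1 hzc t), mul_inv_cancel_right]
  have hb2 : b * (z : G) * b⁻¹ = z * p⁻¹ := by
    have h1 : (r : G) * (g⁻¹ * (z : G) * g) * (r : G)⁻¹ = g⁻¹ * (z : G) * g * (g⁻¹ * p * g)⁻¹ := congrArg Subtype.val hr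
    calc b * (z : G) * b⁻¹ = g * ((r : G) * (g⁻¹ * (z : G) * g) * (r : G)⁻¹) * g⁻¹ := by rw [hb]; group
      _ = _ := by rw [h1]; group
  have hb1 : b * p * b⁻¹ = p := by
    have h1 : (r : G) * (g⁻¹ * p * g) = g⁻¹ * p * g * r := congrArg Subtype.val (Subgroup.mem_center_iff.1 hx''Z r)
    calc b * p * b⁻¹ = g * ((r : G) * (g⁻¹ * p * g)) * (r : G)⁻¹ * g⁻¹ := by rw [hb]; group
      _ = p := by rw [h1]; group
  set w := a * b * a with hw
  have hw1 : w * p * w⁻¹ = z := by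
    calc w * p * w⁻¹ = a * (b * (a * p * a⁻¹) * b⁻¹) * a⁻¹ := by rw [hw]; group
      _ = a * ((b * p * b⁻¹) * (b * z * b⁻¹)) * a⁻¹ := by rw [ha1]; group
      _ = a * (p * (z * p⁻¹)) * a⁻¹ := by rw [hb1, hb2]
      _ = a * (z : G) * a⁻¹ := by rw [← mul_assoc p, ← hzx, mul_inv_cancel_right]
      _ = z := ha2
  have hw2 : w * z * w⁻¹ = p⁻¹ := by
    calc w * z * w⁻¹ = a * (b * (a * z * a⁻¹) * b⁻¹) * a⁻¹ := by rw [hw]; group
      _ = a * (z * p⁻¹) * a⁻¹ := by rw [ha2, hb2]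
      _ = (a * z * a⁻¹) * (a * p * a⁻¹)⁻¹ := by group
      _ = z * (p * z)⁻¹ := by rw [ha2, ha1]
      _ = p⁻¹ := by rw [mul_inv_rev, ← mul_assoc, mul_inv_cancel, one_mul]
  have hinvp : (w * w) * p * (w * w)⁻¹ = p⁻¹ := by
    calc (w * w) * p * (w * w)⁻¹ = w * (w * p * w⁻¹) * w⁻¹ := by group
      _ = p⁻¹ := by rw [hw1, hw2]
  have hinvz : (w * w) * z * (w * w)⁻¹ = (z : G)⁻¹ := by
    calc (w * w) * z * (w * w)⁻¹ = w * (w * z * w⁻¹) * w⁻¹ := by group
      _ = (w * p * w⁻¹)⁻¹ := by rw [hw2]; group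
      _ = _ := by rw [hw1]
  have hsD : (w * w) • D = D := by
    rw [← hzfix, ← fixedBy_conj, hinvz, fixedBy_inv]
  have hsD1 : (w * w) • D1 = D1 := by
    rw [hD1, ← fixedBy_conj, hinvp, fixedBy_inv]
  rcases (show D₀.ncard = 1 ∨ D₀.ncard = 0 by have := d.small; omega) with e1 | e0
  · have hint : D ∩ D1 = D₀ := Set.Subset.antisymm (fun c hc => hinD p hp hpD c hc.1 hc.2)
      fun c hc => ⟨hD₀ hc, d.fix p hp hc⟩
    refine not_invert_of_odd (odd_stab d.odd (D := D₀) (by rw [e1]; exact odd_one)) (mem_stabilizer_iff.2 ?_) hp3 hinvp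
    rw [← hint, Set.smul_set_inter, hsD, hsD1]
  · exact not_invert_of_odd (odd_stab d.odd (D := D) (by rw [hD, e0]; decide)) (mem_stabilizer_iff.2 hsD) hp3 hinvp

end Ctx

/-- Odd stabilizers of order divisible by three. -/
theorem three [IsSimpleGroup G] (hna : ¬ IsMulCommutative G) [IsPretransitive G Ω]
    (hodd : ∀ c : Ω, Odd (Nat.card ↥(stabilizer G c))) (hfour : ∀ g : G, g ≠ 1 → (fixedBy Ω g).ncard ≤ 4)
    (hbig : 4 < Nat.card Ω) {a : Ω} (h3 : 3 ∣ Nat.card ↥(stabilizer G a)) (P : Sylow 3 G) :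
    ThreeEmbedded G ∨ (Nat.card ↥(P : Subgroup G) = 9 ∧ ∀ x ∈ (P : Subgroup G), x ^ 3 = 1) := by
  classical
  haveI : Fact (Nat.Prime 3) := ⟨Nat.prime_three⟩
  obtain ⟨i, hi⟩ := IsPGroup.iff_card.1 P.isPGroup'
  obtain ⟨⟨v, hva⟩, hv⟩ := exists_prime_orderOf_dvd_card' 3 h3
  rw [Subgroup.orderOf_mk] at hv
  obtain ⟨g₀, hg₀⟩ := Invol.exists_conj_mem_sylow (n := 1) (by rw [hv, pow_one]) P
  have h3P : 3 ∣ Nat.card ↥(P : Subgroup G) := by
    have h := Subgroup.orderOf_dvd_natCard _ hg₀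
    rwa [Invol.orderOf_conj_eq, hv] at h
  have hcyc : IsCyclic ↥(P : Subgroup G) → ThreeEmbedded G := fun h => embedded_of_cyclic hna P h h3P
  rcases (show i ≤ 1 ∨ i = 2 ∨ 3 ≤ i by omega) with h1 | h2 | hi3
  · left
    refine hcyc (isCyclic_of_prime_card (p := 3) ?_)
    rw [hi] at h3P ⊢
    interval_cases i
    · norm_num at h3P
    · norm_num
  · by_cases hc : IsCyclic ↥(P : Subgroup G)
    · exact Or.inl (hcyc hc)
    · refine Or.inr ⟨by rw [hi, h2]; norm_num, fun x hx => ?_⟩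
      have hd : orderOf (⟨x, hx⟩ : ↥(P : Subgroup G)) ∣ 3 ^ 2 := h2 ▸ hi ▸ orderOf_dvd_natCard _
      obtain ⟨k, hk, hkx⟩ := (Nat.dvd_prime_pow Nat.prime_three).1 hd
      rcases (show k ≤ 1 ∨ k = 2 by omega) with hk' | rfl
      · rw [← orderOf_dvd_iff_pow_eq_one, ← Subgroup.orderOf_mk x hx, hkx]
        exact (pow_dvd_pow 3 hk').trans (pow_one 3).dvd
      · exact absurd (isCyclic_of_orderOf_eq_card _ (by rw [hkx, hi, h2])) hc
  left
  have hbig' : 27 ≤ Nat.card ↥(P : Subgroup G) := by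
    rw [hi]; exact le_trans (by norm_num) (Nat.pow_le_pow_right (show 1 ≤ 3 by norm_num) hi3)
  set D₀ : Set Ω := {c | ∀ p ∈ (P : Subgroup G), p • c = c} with hD₀
  have hD₀fix : ∀ p ∈ (P : Subgroup G), D₀ ⊆ fixedBy Ω p := fun p hp c hc => hc p hp
  have hmodK : ∀ K : Subgroup G, IsPGroup 3 K →
      ({c : Ω | ∀ k ∈ K, k • c = c} : Set Ω).ncard % 3 = Nat.card Ω % 3 := by
    intro K hK
    have h := hK.card_modEq_card_fixedPoints Ω
    have e : fixedPoints ↥K Ω = {c : Ω | ∀ k ∈ K, k • c = c} :=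
      Set.ext fun c => ⟨fun h k hk => h ⟨k, hk⟩, fun h k => h k k.2⟩
    rw [e, Nat.card_coe_set_eq] at h
    exact h.symm
  have hmod : ∀ u : G, orderOf u = 3 → (fixedBy Ω u).ncard % 3 = Nat.card Ω % 3 := by
    intro u hu
    rw [← hmodK (zpowers u) (Invol.isPGroup_zpowers (n := 1) (by rw [hu, pow_one]))]
    congr 2
    ext c
    exact ⟨fun hc k hk => (zpowers_le.2 (show u ∈ stabilizer G c from hc)) hk, fun hc => hc u (mem_zpowers u)⟩
  have hmod0 : D₀.ncard % 3 = Nat.card Ω % 3 := hmodK _ P.isPGroup'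
  have hne_univ : ∀ D : Set Ω, D.ncard ≤ 4 → D ≠ Set.univ := fun D hD e => by
    rw [e, Set.ncard_univ] at hD; omega
  have hle4 : ∀ u : G, orderOf u = 3 → (fixedBy Ω u).ncard ≤ 4 := fun u hu =>
    hfour u fun e => by rw [e, orderOf_one] at hu; omega
  by_cases hall : ∀ u ∈ (P : Subgroup G), orderOf u = 3 → fixedBy Ω u = D₀
  · have hord : orderOf (g₀ * v * g₀⁻¹) = 3 := by rw [Invol.orderOf_conj_eq, hv]
    have e := hall _ hg₀ hord
    rw [fixedBy_conj] at e
    refine embedded_of_exact P h3P ⟨g₀ • a, e ▸ Set.smul_mem_smul_set hva⟩ (hne_univ _ ?_) (fun p hp => ?_) hall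
    · rw [← hall _ hg₀ hord]; exact hle4 _ hord
    · exact fixing_le_stab D₀ (mem_fixing.2 (hD₀fix p hp))
  push Not at hall
  obtain ⟨x, hx, hx3, hxne⟩ := hall
  have hlt : D₀.ncard < (fixedBy Ω x).ncard :=
    Set.ncard_lt_ncard ((hD₀fix x hx).lt_of_ne (Ne.symm hxne)) (Set.toFinite _)
  have hx4 := hle4 x hx3
  have hmx := hmod x hx3
  have hsize : ∀ u ∈ (P : Subgroup G), orderOf u = 3 → fixedBy Ω u ≠ D₀ →
      (fixedBy Ω u).ncard = D₀.ncard + 3 := by
    intro u hu hu3 hune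
    have hlt' : D₀.ncard < (fixedBy Ω u).ncard :=
      Set.ncard_lt_ncard ((hD₀fix u hu).lt_of_ne (Ne.symm hune)) (Set.toFinite _)
    have := hle4 u hu3
    have := hmod u hu3
    omega
  have d : Ctx P D₀ :=
    { odd := hodd
      big := hbig'
      small := by omega
      fix := hD₀fix
      all := fun c hc => hc
      few := fun u hu => by
        have := hle4 u hu
        have := hmod u hu
        omega
      size := hsize }
  exfalso
  by_cases hstab : ∃ u ∈ (P : Subgroup G), orderOf u = 3 ∧ fixedBy Ω u ≠ D₀ ∧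
      (P : Subgroup G) ≤ stabilizer G (fixedBy Ω u)
  · obtain ⟨u, hu, hu3, hune, hPu⟩ := hstab
    refine d.case_triple hna (hsize u hu hu3 hune) (hD₀fix u hu) hPu fun e => ?_
    have h1 : u ∈ (P : Subgroup G) ⊓ fixingSubgroup G (fixedBy Ω u) := Subgroup.mem_inf.2 ⟨hu, mem_fixing.2 subset_rfl⟩
    rw [e, Subgroup.mem_bot] at h1
    rw [h1, orderOf_one] at hu3
    omega
  push Not at hstab
  set x' : ↥(P : Subgroup G) := ⟨x, hx⟩
  refine d.no_nine hna (x := x') (by rw [Subgroup.orderOf_mk, hx3]) (hsize x hx hx3 hxne) fun c hc => ?_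
  have hc3 : orderOf (c : G) = 3 := by rw [← Invol.orderOf_eq_of_isConj hc]; exact hx3
  have hcsize : (fixedBy Ω (c : G)).ncard = D₀.ncard + 3 := (Ctx.card_fix_conj hc).trans (hsize x hx hx3 hxne)
  have hcne : fixedBy Ω (c : G) ≠ D₀ := Ctx.extra_ne hcsize
  refine d.cent_nine (by rw [← Subgroup.orderOf_coe, hc3]) ?_
  set D := fixedBy Ω (c : G)
  obtain ⟨m, hm, hmD, hmn⟩ := exists_moving P.isPGroup' (hstab c c.2 hc3 hcne)
  set U := (P : Subgroup G) ⊓ fixingSubgroup G D with hU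
  have hU3 : Nat.card U ≤ 3 := by
    rw [← Subgroup.card_map_of_injective (K := U) (f := (MulAut.conj m).toMonoidHom) (MulAut.conj m).injective]
    have hle : U.map (MulAut.conj m).toMonoidHom ≤ (P : Subgroup G) ⊓ stabilizer G D := by
      rintro _ ⟨y, hy, rfl⟩
      exact (hmn y).1 (inf_le_inf_left _ (fixing_le_stab D) hy)
    refine (d.card_le_three_mul hcsize (hle.trans inf_le_left) (hle.trans inf_le_right)).trans ?_
    have e : U.map (MulAut.conj m).toMonoidHom ⊓ fixingSubgroup G D = ⊥ := by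
      refine (Subgroup.eq_bot_iff_forall _).2 fun y hy => ?_
      obtain ⟨hy1, hy2⟩ := Subgroup.mem_inf.1 hy
      obtain ⟨z, hz, rfl⟩ := hy1
      exact eq_one_of_fix_two (by rw [hcsize]; exact d.few) (ncard_smul m D) hmD P.isPGroup'
        (Subgroup.mem_inf.1 (hle ⟨z, hz, rfl⟩)).1 hy2 (conj_mem_fixing.2 (Subgroup.mem_inf.1 hz).2)
    rw [e, Subgroup.card_bot]
  refine (d.card_le_three_mul hcsize inf_le_left fun y hy => mem_stabilizer_iff.2
    (smul_fixedBy_of_commute (mem_centralizer_singleton_iff.1 (Subgroup.mem_inf.1 hy).2))).trans ?_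
  have : Nat.card ↥((P : Subgroup G) ⊓ centralizer ({(c : G)} : Set G) ⊓ fixingSubgroup G D) ≤ Nat.card U :=
    Subgroup.card_le_of_le (inf_le_inf_right _ inf_le_left)
  omega

end Cfsg.Agent.Fus.FixFour
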