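import Mathlib
import Cfsg.Prelude.Def_CaseTheorems
import Cfsg.Prelude.Def_Involutions

import Cfsg.Agent.Lib.Fus.FixFour.Small
import Cfsg.Agent.Lib.Fus.FixFour.Four
import Cfsg.Agent.Lib.Fus.FixFour.Three

/-!
# Simple transitive groups of fixity four

The five alternatives, with Aschbacher's criterion as a hypothesis for the case of four fixed points.
-/

set_option autoImplicit false

namespace Cfsg.Agent.Fus.FixFour

open Subgroup MulAction
open scoped Pointwise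

universe u v

theorem s3365_of (hA : Crit.{u}) {G : Type u} {Ω : Type v} [Group G] [Finite G] [IsSimpleGroup G]
    (hna : ¬ IsMulCommutative G) [MulAction G Ω] [FaithfulSMul G Ω] [Finite Ω]
    (htrans : MulAction.IsPretransitive G Ω)
    (hfix : ∀ g : G, g ≠ 1 → Nat.card (MulAction.fixedBy Ω g) ≤ 4)
    (hfix4 : ∃ g : G, g ≠ 1 ∧ Nat.card (MulAction.fixedBy Ω g) = 4) (P : Sylow 3 G) (S : Sylow 2 G)
    (f : ℕ) (hf : ∀ g : G, orderOf g = 2 → Nat.card (MulAction.fixedBy Ω g) ≤ f)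
    (hf' : ∃ g : G, orderOf g = 2 ∧ Nat.card (MulAction.fixedBy Ω g) = f) (a : Ω) :
    (1 ≤ f ∧ ∃ H : Subgroup G, Cfsg.IsStronglyEmbedded H) ∨
    (1 ≤ f ∧ f ≤ 3 ∧ ((∃ n : ℕ, Nonempty ((S : Subgroup G) ≃* DihedralGroup n)) ∨
      Cfsg.IsQuasiDihedral (S : Subgroup G))) ∨
    (f = 4 ∧ Cfsg.SectionalPRankLE 2 4 G) ∨
    (Odd (Nat.card (MulAction.stabilizer G a)) ∧ 3 ∣ Nat.card (MulAction.stabilizer G a) ∧
      ((∃ H : Subgroup G, H ≠ ⊤ ∧ 3 ∣ Nat.card H ∧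
          ∀ g : G, g ∉ H → ¬ 3 ∣ Nat.card ↥(H ⊓ H.map (MulAut.conj g).toMonoidHom)) ∨
        (Nat.card P = 3 ∧ ∀ T : Sylow 2 (Subgroup.normalizer ((P : Subgroup G) : Set G)), Nat.card T ≤ 4) ∨
        (Nat.card P = 9 ∧ ∀ x ∈ (P : Subgroup G), x ^ 3 = 1) ∨
        (Nat.card P = 27 ∧ Cfsg.IsExtraspecial 3 (P : Subgroup G) ∧ ∀ x ∈ (P : Subgroup G), x ^ 3 = 1) ∨
        (∃ T : Sylow 3 (Equiv.Perm (Fin 9)),
          Nonempty ((P : Subgroup G) ≃* (T : Subgroup (Equiv.Perm (Fin 9))))))) ∨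
    (Nat.card (MulAction.stabilizer G a)).Coprime 6 := by
  classical
  haveI := htrans
  simp only [Nat.card_coe_set_eq] at hfix hfix4 hf hf'
  obtain ⟨g₄, hg₄, hg₄4⟩ := hfix4
  have hbig : 4 < Nat.card Ω := by
    rw [← Set.ncard_univ]
    refine hg₄4 ▸ Set.ncard_lt_ncard ((Set.subset_univ _).lt_of_ne fun e => hg₄ ?_) (Set.toFinite _)
    exact (fixedBy_eq_univ_iff_eq_one).1 e
  obtain ⟨t, ht, htf⟩ := hf'
  have hf4 : f ≤ 4 := htf ▸ hfix t (fun e => by rw [e, orderOf_one] at ht; omega)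
  set D := fixedBy Ω t with hD
  have hDne : D ≠ Set.univ := fun e => by rw [e, Set.ncard_univ] at htf; omega
  rcases (show f = 0 ∨ (1 ≤ f ∧ f ≤ 3) ∨ f = 4 by omega) with rfl | ⟨h1, h3⟩ | rfl
  · have hodd : ∀ c : Ω, Odd (Nat.card ↥(stabilizer G c)) := fun c => Nat.not_even_iff_odd.1 fun he => by
      obtain ⟨v, hv, hv2⟩ := Invol.exists_orderOf_two_mem he
      have h0 := hf v hv2
      have h1 : (fixedBy Ω v).Nonempty := ⟨c, hv⟩
      have := h1.ncard_pos (Set.toFinite _)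
      omega
    by_cases h3 : 3 ∣ Nat.card ↥(stabilizer G a)
    · refine Or.inr (Or.inr (Or.inr (Or.inl ⟨hodd a, h3, ?_⟩)))
      rcases three hna hodd hfix hbig h3 P with h | h
      · exact Or.inl h
      · exact Or.inr (Or.inr (Or.inl h))
    · refine Or.inr (Or.inr (Or.inr (Or.inr ?_)))
      rw [show 6 = 2 * 3 from rfl, Nat.coprime_mul_iff_right]
      exact ⟨(hodd a).coprime_two_right, (Nat.prime_three.coprime_iff_not_dvd.2 h3).symm⟩
  · have hne : D.Nonempty := Set.nonempty_of_ncard_ne_zero (by rw [htf]; omega)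
    rcases small hna hne (htf ▸ h3) hDne (fun v hv => htf ▸ hf v hv) ht rfl S with h | h
    · exact Or.inl ⟨h1, h⟩
    · exact Or.inr (Or.inl ⟨h1, h3, h⟩)
  · rcases four hA htf hDne hf ht rfl with h | h
    · exact Or.inl ⟨by norm_num, h⟩
    · exact Or.inr (Or.inr (Or.inl ⟨rfl, h⟩))

end Cfsg.Agent.Fus.FixFour
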